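import Cfsg.Agent.Mrg.Omega.NOThreeL.RRed.NS.Two
import Cfsg.Agent.Mrg.Omega.NO3S.Level.ThmD
import Cfsg.Agent.Mrg.Omega.NO3S.ThmB.Inst
import Cfsg.Agent.Mrg.Omega.NOThreeL.RTreeA
import Cfsg.Agent.Mrg.Omega.NOThreeL.RRed.NS.Act
import Cfsg.Agent.Mrg.Omega.NO3S.SN2.BAOff
import Cfsg.Agent.Omega.OmThm.SideBase
import Cfsg.Agent.Mrg.Omega.TC.No

-- merged: Cfsg.Agent.Mrg.Omega.NOThreeL.RRed.NS.Gd
section

section


/-!
# THEOREM NS (#24102): the parabolics

* `gd_of` : `P ∈ P*(S)`, `P ≤ N(U)`, `Z ≤ U` elementary abelian, the FF theorem ⟹ `Gd S P U V_P`;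
* `nat_of` : if a member of `EE` moves `V_P'` and acts as a root group over a field with more than two elements on a natural
  block of `P`, then `P'` is of natural type.
-/

set_option autoImplicit false
set_option linter.unusedSectionVars false

namespace Cfsg.Agent.Omega.NOThreeL.RRed.NS

open Subgroup Cfsg Cfsg.Agent.ZN Cfsg.Agent.ZN.ChoiceBase Cfsg.Agent.Omega.MinPar
open Cfsg.Agent.Omega.FFThm (NatKM SymKM OffM ElemM NoOverM StmtM ConclM syl_of_sylow)
open Cfsg.Agent.Omega.FrameFF (cv)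
open Cfsg.Agent.Omega.NO3S.ThmB Cfsg.Agent.Omega.NO3S.KeyRad

universe u

variable {G : Type u} [Group G] [Finite G] {S : Sylow 2 G} {P U : Subgroup G}

theorem gd_of (hG : IsCharacteristicTwoType G) (hFF : StmtM.{u}) (hP : IsParS (S : Subgroup G) P)
    (hU2 : IsElementaryAbelian 2 U) (hPU : P ≤ normalizer (U : Set G)) (hZU : zc (S : Subgroup G) ≤ U) :
    Gd (S : Subgroup G) P U (zl (S : Subgroup G) P) where
  SP := hP.le
  UN := hPU
  U2 := hU2
  VU := ZN.zl_le hZU hPU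
  VN := ZN.le_normalizer_zl _ _
  PS := fun _ hB hBc _ hg => NO3S.Level.conj_le_of_cent hG hP hB hBc hg
  full := fun A hA t hne => by
    have hVU : zl (S : Subgroup G) P ≤ U := ZN.zl_le hZU hPU
    have hE : ElemM (zl (S : Subgroup G) P) A :=
      ⟨fun a ha => centralizer_le hVU (t.elem.sq a ha), fun a ha b hb => centralizer_le hVU (t.elem.comm a ha b hb)⟩
    exact (t.split hU2 hVU (NO3S.Level.noOver_line hFF hG hP (hA.trans hP.le) hE hne) hne).2
  gen := fun A hA hne => by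
    have hAP : A ≤ P := hA.trans hP.le
    have hN : P ≤ normalizer (NC P A : Set G) := fun g hg => mem_normalizer_iff.2 fun x =>
      ⟨fun hx => conj_NC hg hx, fun hx => by
        have h1 := conj_NC (inv_mem hg) hx
        have e : g⁻¹ * (g * x * g⁻¹) * g⁻¹⁻¹ = x := by group
        rwa [e] at h1⟩
    rcases IsPar.sup_eq_or_inf_le S hP.toIsPar (NC_le hAP) hN with h1 | h1
    · exact h1.ge
    · exfalso
      apply hne
      have h2 : A ≤ o2 P := (le_inf hA le_NC).trans h1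
      rw [← IsParS.inf_centralizer S hG hP] at h2
      exact h2.trans inf_le_right

/-- `P'` is of natural type -/
theorem nat_of (hG : IsCharacteristicTwoType G) (hFF : StmtM.{u}) {P' : Subgroup G} (hP' : IsParS (S : Subgroup G) P')
    (hU2 : IsElementaryAbelian 2 U) (hP'U : P' ≤ normalizer (U : Set G)) (hZU : zc (S : Subgroup G) ≤ U) {A : Subgroup G}
    (hAS : A ≤ S) (t : Tt U A) (hne : ¬ A ≤ centralizer (zl (S : Subgroup G) P' : Set G)) {F : Type} [Field F] [Finite F] {V D : Subgroup G}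
    {k : ℕ} {M : NatKM F (S : Subgroup G) P V D k} (hVU : V ≤ U) {j : Fin k} (O : One M U A j) (hF : 2 < Nat.card F) :
    ∃ (F' : Type) (_ : Field F') (_ : Finite F') (_ : CharP F' 2) (k' : ℕ),
      Nonempty (NatKM F' (S : Subgroup G) P' (zl (S : Subgroup G) P') (cv (S : Subgroup G) P') k') := by
  have hVU' : zl (S : Subgroup G) P' ≤ U := ZN.zl_le hZU hP'U
  have hoff : OffM (zl (S : Subgroup G) P') A := t.offM hU2 hVU' hne
  obtain ⟨-, hcon⟩ := hFF G (S : Subgroup G) P' (syl_of_sylow S hP'.le) hP'.toIsMinPar (hP'.isLoc.char2 S hG)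
    ⟨A, hAS.trans hP'.le, hoff⟩
  rcases hcon with ⟨F', i1, i2, i3, k', -, ⟨N⟩⟩ | ⟨k', m, -, hm, ⟨N⟩⟩
  · exact ⟨F', i1, i2, i3, k', ⟨N⟩⟩
  · exfalso
    obtain ⟨i, x, y, s, n0, O'⟩ := Tt.oneS (Inst.sb hG hP' hm N) t hU2 hVU' hAS hne
    exact One.not_oneS hF O hVU O'

end Cfsg.Agent.Omega.NOThreeL.RRed.NS

end

section


/-!
# THEOREM NS (#24102)

`P, P' ∈ P*(S)` normalise the elementary abelian group `U ≥ Z`, members `A₀, A'` of `EE = {A ≤ S : Tt U A}` move `V_P`
resp. `V_P'`, `V_P` is of natural type over `F`, `|F| > 2`.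

* `iSup_DD` : `x ∈ ⨆ blk M j`, `x ∈ D` ⟹ `x ∈ ⨆ DD M j`;
* `swap_of` : if `P'` moves some `x ∈ Z ∩ D ∩ ⨆ blk M j`, then `P'` is natural and `Swap` holds.
-/

set_option autoImplicit false
set_option linter.unusedSectionVars false

namespace Cfsg.Agent.Omega.NOThreeL.RRed.NS

open Subgroup Cfsg Cfsg.Agent.ZN Cfsg.Agent.ZN.ChoiceBase Cfsg.Agent.Omega.MinPar
open Cfsg.Agent.Omega.FFThm (NatKM SymKM OffM ElemM NoOverM StmtM ConclM syl_of_sylow)
open Cfsg.Agent.Omega.FrameFF (cv)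
open Cfsg.Agent.Omega.NO3S.ThmB Cfsg.Agent.Omega.NO3S.KeyRad

universe u

section mod

variable {G : Type u} [Group G] {F : Type} [Field F] {S P V D : Subgroup G} {k : ℕ} {M : NatKM F S P V D k} (h : Nb M)
include h

theorem iSup_DD [CharP F 2] {x : G} (hx : x ∈ ⨆ j, blk M j) (hxD : x ∈ D) : x ∈ ⨆ j, DD M j := by
  classical
  have key : ∀ s : Finset (Fin k), ∀ x ∈ ⨆ j ∈ s, blk M j, M.e x = 0 → x ∈ ⨆ j, DD M j := by
    intro s
    induction s using Finset.induction_on with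
    | empty =>
      intro x hx _
      have h1 : x = 1 := by simpa using hx
      rw [h1]
      exact one_mem _
    | insert a s ha ih =>
      intro x hx h0
      have hW : ∀ j, blk M j ≤ blk M j := fun j => le_rfl
      obtain ⟨y, hy, r, hr, rfl⟩ := iSup_insert_mem h hW hx
      obtain ⟨hrV, hra⟩ := iSup_blk_e h ha hW hr
      have hyV := blk_le h a hy
      have h1 := congrFun h0 a
      rw [M.mul _ hyV _ hrV, Pi.add_apply, hra, add_zero] at h1
      have hyD : y ∈ DD M a := (mem_DD h hy).2 h1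
      have h2 : M.e y = 0 := (M.ker y hyV).2 hyD.2
      rw [M.mul _ hyV _ hrV, h2, zero_add] at h0
      exact mul_mem ((le_iSup (DD M) a : DD M a ≤ _) hyD) (ih r hr h0)
  have hxV : x ∈ V := (iSup_le fun j => blk_le h j : (⨆ j, blk M j) ≤ V) hx
  refine key Finset.univ x (by simpa using hx) ((M.ker x hxV).2 hxD)

end mod

variable {G : Type u} [Group G] [Finite G] {S : Sylow 2 G} {P P' U : Subgroup G}

/-- **(1), (2)** -/
theorem swap_of (hG : IsCharacteristicTwoType G) (hFF : StmtM.{u}) (hP : IsParS (S : Subgroup G) P)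
    (hP' : IsParS (S : Subgroup G) P') (hU2 : IsElementaryAbelian 2 U) (hPU : P ≤ normalizer (U : Set G))
    (hP'U : P' ≤ normalizer (U : Set G)) (hZU : zc (S : Subgroup G) ≤ U) {F : Type} [Field F] [Finite F] [CharP F 2]
    {k : ℕ} (M : NatKM F (S : Subgroup G) P (zl (S : Subgroup G) P) (cv (S : Subgroup G) P) k) (hF : 2 < Nat.card F)
    {A₀ : Subgroup G} (hA₀S : A₀ ≤ S) (t₀ : Tt U A₀) (hne₀ : ¬ A₀ ≤ centralizer (zl (S : Subgroup G) P : Set G))
    {A' : Subgroup G} (hA'S : A' ≤ S) (t' : Tt U A') (hne' : ¬ A' ≤ centralizer (zl (S : Subgroup G) P' : Set G))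
    {x : G} (hx : x ∈ ⨆ j, DD M j) (hxS : ∀ s ∈ S, s * x = x * s) {y : G} (hy : y ∈ P') (hyx : y * x ≠ x * y) :
    ∃ (F' : Type) (_ : Field F') (_ : Finite F') (_ : CharP F' 2) (k' : ℕ)
      (M' : NatKM F' (S : Subgroup G) P' (zl (S : Subgroup G) P') (cv (S : Subgroup G) P') k')
      (h : Nb M) (h' : Nb M') (l g : Fin k → F → G) (l' g' : Fin k' → F' → G) (C : ∀ j, Cd M j (l j) (g j))
      (C' : ∀ j, Cd M' j (l' j) (g' j)), Swap M M' h h' U C C' := by
  have gd := gd_of hG hFF hP hU2 hPU hZU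
  have gd' := gd_of hG hFF hP' hU2 hP'U hZU
  have h := Inst.nb hG hP M
  obtain ⟨i, O⟩ := t₀.one h hU2 gd.VU hA₀S hne₀
  have hmv := gd'.moves h hF gd.VU hPU hA'S t' hne' hx hxS hy hyx hA₀S t₀ hne₀
  obtain ⟨F', i1, i2, i3, k', ⟨M'⟩⟩ := nat_of hG hFF hP' hU2 hP'U hZU hA₀S t₀ hmv gd.VU O hF
  have h' := Inst.nb hG hP' M'
  obtain ⟨i', O'⟩ := t₀.one h' hU2 gd'.VU hA₀S hmv
  have hc : Nat.card F = Nat.card F' :=
    le_antisymm (card_le_of_one h' O O' (hA₀S.trans hP'.le) gd.VU) (card_le_of_one h O' O (hA₀S.trans hP.le) gd'.VU)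
  have hF' : 2 < Nat.card F' := hc ▸ hF
  choose l g C using fun j => exists_cd h hF j
  choose l' g' C' using fun j => exists_cd h' hF' j
  exact ⟨F', i1, i2, i3, k', M', h, h', l, g, l', g', C, C',
    two h h' C C' S.isPGroup' hF gd gd' hA₀S t₀ hne₀ hA'S t' hne' hx hxS hy hyx⟩

end Cfsg.Agent.Omega.NOThreeL.RRed.NS

end

end

-- merged: Cfsg.Agent.Mrg.Omega.NOThreeL.RRed.NS.Spl
section

section


/-!
# THEOREM NS (#24102): (SPL)

* `Tt.of_minOff` : a minimal offender on `W` (`Level.MinOff`) without over-offenders is in `EE`;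
* `splitBy_of` : `V_P` natural, `(⨆ blk M j) ∩ cv S P = 1` ⟹ `SplitBy S P (cv S P) (⨆ blk M j)`;
* `exists_fix` : otherwise some `1 ≠ x ∈ Z` is in it.
-/

set_option autoImplicit false
set_option linter.unusedSectionVars false

namespace Cfsg.Agent.Omega.NOThreeL.RRed.NS

open Subgroup Cfsg Cfsg.Agent.ZN Cfsg.Agent.ZN.ChoiceBase Cfsg.Agent.Omega.MinPar
open Cfsg.Agent.Omega.FFThm (NatKM SymKM OffM ElemM NoOverM StmtM ConclM syl_of_sylow)
open Cfsg.Agent.Omega.FrameFF (cv)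
open Cfsg.Agent.Omega.NO3S.ThmB Cfsg.Agent.Omega.NO3S.KeyRad
open Cfsg.Agent.Omega.NOThreeL.RTreeA (SplitBy Splits)

universe u

section min

variable {G : Type u} [Group G] [Finite G] {W M A : Subgroup G}

/-- a minimal offender is in `EE` -/
theorem Tt.of_minOff (m : NO3S.Level.MinOff W M A) (no : NoOverM W M) : Tt W A where
  elem := m.off.toElemM
  ne := m.off.ne
  off := m.off.le
  min := fun B h1 h2 h3 h4 => by
    have hE : ElemM W B := ⟨fun b hb => m.off.sq b (h2 hb), fun b hb c hc => m.off.comm b (h2 hb) c (h2 hc)⟩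
    have h5 := no B (h2.trans m.le) hE
    have e : B ⊓ centralizer (W : Set G) = A ⊓ centralizer (W : Set G) :=
      le_antisymm (inf_le_inf_right _ h2) (le_inf h1 inf_le_right)
    by_contra hcon
    have h6 : OffM W B := ⟨hE, h4, by rw [e]; exact m.off.le.trans (not_lt.1 hcon)⟩
    have h7 := m.min B (h2.trans m.le) (m.pg.to_le h2) h6
    have e1 := card_inf_relIndex (A := A) (C := centralizer (W : Set G))
    have e2 := card_inf_relIndex (A := B) (C := centralizer (W : Set G))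
    rw [e] at e2
    have h8 : Nat.card A ≤ Nat.card B := by
      rw [← e1, ← e2]
      exact Nat.mul_le_mul_right _ h7
    exact h3 (eq_of_le_of_card_ge h2 h8)

end min

section mod

variable {G : Type u} [Group G] {F : Type} [Field F] [CharP F 2] {S P V D : Subgroup G} {k : ℕ}
  {M : NatKM F S P V D k} (h : Nb M)
include h

/-- the blocks generate `V` modulo `D` -/
theorem exists_iSup_blk (v : G) : ∃ w ∈ ⨆ j, blk M j, M.e w = M.e v := by
  classical
  have key : ∀ s : Finset (Fin k), ∃ w ∈ ⨆ j, blk M j, ∀ j, M.e w j = if j ∈ s then M.e v j else 0 := by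
    intro s
    induction s using Finset.induction_on with
    | empty => exact ⟨1, one_mem _, fun j => by rw [Nb.e_one (M := M)]; simp⟩
    | insert a s ha ih =>
      obtain ⟨w, hw, hwe⟩ := ih
      obtain ⟨y, hy, hya⟩ := exists_blk_e h a (M.e v a)
      have hwV : w ∈ V := (iSup_le fun j => blk_le h j : (⨆ j, blk M j) ≤ V) hw
      refine ⟨y * w, mul_mem ((le_iSup (blk M) a : blk M a ≤ _) hy) hw, fun j => ?_⟩
      rw [M.mul _ (blk_le h a hy) _ hwV, Pi.add_apply, hwe]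
      by_cases hja : j = a
      · subst hja
        rw [hya, if_neg ha, add_zero, if_pos (Finset.mem_insert_self _ _)]
      · rw [e_blk h hja hy, zero_add]
        simp only [Finset.mem_insert, hja, false_or]
  obtain ⟨w, hw, hwe⟩ := key Finset.univ
  exact ⟨w, hw, funext fun j => by rw [hwe]; simp⟩

theorem iSup_blk_norm : P ≤ normalizer ((⨆ j, blk M j : Subgroup G) : Set G) := fun g hg =>
  mem_normalizer_iff.2 fun y => ⟨fun hy => conj_iSup_blk h hg hy, fun hy => by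
    have h1 := conj_iSup_blk h (inv_mem hg) hy
    have e : g⁻¹ * (g * y * g⁻¹) * g⁻¹⁻¹ = y := by group
    rwa [e] at h1⟩

end mod

variable {G : Type u} [Group G] [Finite G] {S : Sylow 2 G} {P : Subgroup G}

theorem splitBy_of {F : Type} [Field F] [CharP F 2] {k : ℕ}
    {M : NatKM F (S : Subgroup G) P (zl (S : Subgroup G) P) (cv (S : Subgroup G) P) k} (h : Nb M)
    (h0 : (⨆ j, blk M j) ⊓ cv (S : Subgroup G) P = ⊥) : SplitBy (S : Subgroup G) P (cv (S : Subgroup G) P) (⨆ j, blk M j) := by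
  refine ⟨iSup_le fun j => blk_le h j, iSup_blk_norm h, h0, fun v hv => ?_⟩
  obtain ⟨w, hw, hwv⟩ := exists_iSup_blk h v
  have hwV : w ∈ zl (S : Subgroup G) P := (iSup_le fun j => blk_le h j : (⨆ j, blk M j) ≤ _) hw
  have h1 : v * w⁻¹ ∈ cv (S : Subgroup G) P := (h.mem_D hv hwV).2 hwv.symm
  have e : v = v * w⁻¹ * w := by group
  rw [e]
  exact mul_mem (mem_sup_right h1) (mem_sup_left hw)

theorem exists_fix {F : Type} [Field F] [CharP F 2] {k : ℕ}
    {M : NatKM F (S : Subgroup G) P (zl (S : Subgroup G) P) (cv (S : Subgroup G) P) k} (h : Nb M)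
    (hVS : zl (S : Subgroup G) P ≤ S) (h0 : (⨆ j, blk M j) ⊓ cv (S : Subgroup G) P ≠ ⊥) :
    ∃ x ∈ ⨆ j, DD M j, x ≠ 1 ∧ x ∈ zc (S : Subgroup G) ∧ x ∈ cv (S : Subgroup G) P := by
  have hf : Fact (Nat.Prime 2) := ⟨Nat.prime_two⟩
  have hle : (⨆ j, blk M j) ⊓ cv (S : Subgroup G) P ≤ S :=
    inf_le_left.trans ((iSup_le fun j => blk_le h j).trans hVS)
  have hn : (S : Subgroup G) ≤ normalizer (((⨆ j, blk M j) ⊓ cv (S : Subgroup G) P : Subgroup G) : Set G) := by
    intro s hs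
    have h1 := iSup_blk_norm h (h.SP' hs)
    have h2 := h.DP' (h.SP' hs)
    refine mem_normalizer_iff.2 fun y => ?_
    rw [mem_inf, mem_inf]
    exact and_congr (mem_normalizer_iff.1 h1 y) (mem_normalizer_iff.1 h2 y)
  have h1 := PLocal.OffenderStep.inf_centralizer_ne_bot _ (S : Subgroup G) (S.isPGroup'.to_le hle) S.isPGroup' hn h0
  obtain ⟨c, hc1⟩ := Subgroup.ne_bot_iff_exists_ne_one.1 h1
  refine ⟨c, iSup_DD h c.2.1.1 c.2.1.2, fun h0 => hc1 (Subtype.ext h0), ?_, c.2.1.2⟩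
  refine ChoiceBase.mem_zc.2 ⟨hle c.2.1, ?_, fun y hy => mem_centralizer_iff.1 c.2.2 y hy⟩
  rw [pow_two]
  exact h.sq ((iSup_le fun j => blk_le h j : (⨆ j, blk M j) ≤ _) c.2.1.1)

end Cfsg.Agent.Omega.NOThreeL.RRed.NS

end

section


/-!
# Natural modules without radical: the module part of `PIn` (helper540, for socket [P], helper278 #25393)

`M : NatKM F S P V D k`, `h : Nb M`, `spl : ∀ j, DD M j = ⊥` (`blk M j ∩ D = 1`), lines `YY h j ≤ blk M j`.

* `ext`, `mem_blk_iff`, `ind`, `cj_blk`, `trans`, `card_YY`;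
* `root` : an element of 2-power order with `[blk M i, g] ≤ YY h i` is trivial or `[blk M i, g] = YY h i`;
* `blk_le_of`, `irr` : `P` is irreducible on `⨆ blk M j`;
* `rootOn` : offenders in `S` are products of full root groups;
* `mem_iSup_YY`, `vec`.
-/

set_option autoImplicit false
set_option linter.unusedSectionVars false

namespace Cfsg.Agent.Omega.NOThreeL.RWide.PNat

open Subgroup Cfsg Cfsg.Agent.ZN Cfsg.Agent.ZN.ChoiceBase
open Cfsg.Agent.Omega.FFThm Cfsg.Agent.Lib.SL2Mat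
open Cfsg.Agent.Omega.NatPair hiding cj mem_cj
open Cfsg.Agent.Omega.NO3S.ThmB Cfsg.Agent.Omega.NO3S.KeyRad
open Cfsg.Agent.Omega.NOThreeL.RRed.NS

universe u

variable {G : Type u} [Group G] {F : Type} [Field F] [CharP F 2] {S P V D : Subgroup G} {k : ℕ}
  {M : NatKM F S P V D k} (h : Nb M)

/-- `{x ∈ V : e x i = 0}` -/
def kr (h : Nb M) (i : Fin k) : Subgroup G where
  carrier := {x | x ∈ V ∧ M.e x i = 0}
  one_mem' := ⟨one_mem _, by rw [Nb.e_one (M := M)]; rfl⟩
  mul_mem' := by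
    rintro a b ⟨ha, ha0⟩ ⟨hb, hb0⟩
    exact ⟨mul_mem ha hb, by rw [M.mul a ha b hb, Pi.add_apply, ha0, hb0, add_zero]⟩
  inv_mem' := by
    rintro a ⟨ha, ha0⟩
    exact ⟨inv_mem ha, by rw [h.e_inv ha, ha0]⟩

include h

theorem sup_le_V : (⨆ j, blk M j) ≤ V := iSup_le (blk_le h)

theorem e_off {i : Fin k} {x : G} (hx : x ∈ ⨆ (j) (_ : j ≠ i), blk M j) : M.e x i = 0 := by
  have h2 : x ∈ kr h i :=
    (iSup₂_le fun j hj w hw => (⟨blk_le h j hw, e_blk h (Ne.symm hj) hw⟩ : w ∈ kr h i) :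
      (⨆ (j) (_ : j ≠ i), blk M j) ≤ kr h i) hx
  exact h2.2

variable (spl : ∀ j, DD M j = ⊥)
include spl

theorem eq_one {x : G} (hx : x ∈ ⨆ j, blk M j) (hxD : x ∈ D) : x = 1 := by
  have h1 := iSup_DD h hx hxD
  simp only [spl, iSup_bot] at h1
  exact mem_bot.1 h1

theorem ext {x y : G} (hx : x ∈ ⨆ j, blk M j) (hy : y ∈ ⨆ j, blk M j) (he : M.e x = M.e y) : x = y := by
  have hV := sup_le_V h
  have h1 : x * y⁻¹ ∈ D := (h.mem_D (hV hx) (hV hy)).2 he
  exact mul_inv_eq_one.1 (eq_one h spl (mul_mem hx (inv_mem hy)) h1)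

theorem blk_ext {i : Fin k} {x y : G} (hx : x ∈ blk M i) (hy : y ∈ blk M i) (he : M.e x i = M.e y i) : x = y := by
  refine ext h spl ((le_iSup (blk M) i : blk M i ≤ _) hx) ((le_iSup (blk M) i : blk M i ≤ _) hy) ?_
  funext l
  by_cases hl : l = i
  · rw [hl]; exact he
  · rw [e_blk h hl hx, e_blk h hl hy]

theorem mem_blk_iff {j : Fin k} {y : G} : y ∈ blk M j ↔ y ∈ (⨆ j, blk M j) ∧ ∀ l, l ≠ j → M.e y l = 0 := by
  refine ⟨fun hy => ⟨(le_iSup (blk M) j : blk M j ≤ _) hy, fun l hl => e_blk h hl hy⟩, fun ⟨hy, h0⟩ => ?_⟩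
  obtain ⟨w, hw, hwj⟩ := exists_blk_e h j (M.e y j)
  have e : y = w := by
    refine ext h spl hy ((le_iSup (blk M) j : blk M j ≤ _) hw) ?_
    funext l
    by_cases hl : l = j
    · rw [hl, hwj]
    · rw [h0 l hl, e_blk h hl hw]
  rw [e]
  exact hw

theorem ind : iSupIndep (fun j => blk M j) := by
  intro i
  rw [disjoint_iff_inf_le]
  rintro x ⟨hx1, hx2⟩
  have h3 : M.e x = 0 := by
    funext l
    by_cases hl : l = i
    · rw [hl]; exact e_off h hx2
    · exact e_blk h hl hx1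
  have h4 : x ∈ DD M i := ⟨hx1, (M.ker x (blk_le h i hx1)).1 h3⟩
  rwa [spl i] at h4

theorem conj_mem_blk {g : G} (hg : g ∈ P) {σ : Equiv.Perm (Fin k)}
    (hσ : ∀ v ∈ V, ∀ i, M.e (g * v * g⁻¹) (σ i) = 0 ↔ M.e v i = 0) {j : Fin k} {y : G} (hy : y ∈ blk M j) :
    g * y * g⁻¹ ∈ blk M (σ j) := by
  refine (mem_blk_iff h spl).2 ⟨conj_iSup_blk h hg ((le_iSup (blk M) j : blk M j ≤ _) hy), fun l hl => ?_⟩
  have h1 := hσ y (blk_le h j hy) (σ.symm l)
  rw [σ.apply_symm_apply] at h1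
  exact h1.2 (e_blk h (fun h2 => hl (by rw [← h2, σ.apply_symm_apply])) hy)

omit spl in
theorem perm_inv {g : G} (hg : g ∈ P) {σ : Equiv.Perm (Fin k)}
    (hσ : ∀ v ∈ V, ∀ i, M.e (g * v * g⁻¹) (σ i) = 0 ↔ M.e v i = 0) :
    ∀ v ∈ V, ∀ i, M.e (g⁻¹ * v * g⁻¹⁻¹) (σ.symm i) = 0 ↔ M.e v i = 0 := by
  intro v hv i
  have h1 := hσ _ (h.memV (inv_mem hg) hv) (σ.symm i)
  rw [σ.apply_symm_apply] at h1
  have e : g * (g⁻¹ * v * g⁻¹⁻¹) * g⁻¹ = v := by group
  rw [e] at h1
  exact h1.symm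

theorem cj_blk {g : G} (hg : g ∈ P) {σ : Equiv.Perm (Fin k)}
    (hσ : ∀ v ∈ V, ∀ i, M.e (g * v * g⁻¹) (σ i) = 0 ↔ M.e v i = 0) (j : Fin k) :
    cj g (blk M j) = blk M (σ j) := by
  ext x
  rw [mem_cj]
  constructor
  · intro hx
    have h1 := conj_mem_blk h spl hg hσ hx
    have e : g * (g⁻¹ * x * g) * g⁻¹ = x := by group
    rwa [e] at h1
  · intro hx
    have h1 := conj_mem_blk h spl (inv_mem hg) (perm_inv h hg hσ) hx
    rw [inv_inv, σ.symm_apply_apply] at h1
    exact h1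

theorem trans (i j : Fin k) : ∃ s ∈ S, cj s (blk M i) = blk M j := by
  obtain ⟨t, ht, h1⟩ := M.trans i j
  obtain ⟨σ, hσ⟩ := M.perm t (h.SP' ht)
  refine ⟨t, ht, ?_⟩
  have h2 : σ i = j := by
    by_contra hne
    obtain ⟨v, hv, hvi, hvl⟩ := Nb.exists_single M i ![1, 0]
    have h3 : M.e (t * v * t⁻¹) j = 0 := by
      have h4 := hσ v hv (σ.symm j)
      rw [σ.apply_symm_apply] at h4
      exact h4.2 (hvl _ fun h5 => hne (by rw [← h5, σ.apply_symm_apply]))
    rw [h1 v hv, hvi] at h3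
    exact one_ne_zero (congrFun h3 0)
  rw [cj_blk h spl (h.SP' ht) hσ, h2]

theorem card_blk' (j : Fin k) : Nat.card (blk M j) = Nat.card F ^ 2 := by
  rw [card_blk h, spl, card_bot, mul_one]

theorem card_YY (j : Fin k) : Nat.card (YY h j) = Nat.card F := by
  have hf : Function.Bijective (fun w : YY h j => M.e (w : G) j 0) := by
    constructor
    · rintro ⟨x, hx⟩ ⟨y, hy⟩ hxy
      exact Subtype.ext (blk_ext h spl hx.1 hy.1 (vec_eq hxy (hx.2.trans hy.2.symm)))
    · intro c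
      obtain ⟨w, hw, hwj⟩ := exists_blk_e h j ![c, 0]
      exact ⟨⟨w, hw, by rw [hwj]; rfl⟩, by simp [hwj]⟩
  exact Nat.card_congr (Equiv.ofBijective _ hf)

theorem card_eq (j : Fin k) : Nat.card (blk M j) = Nat.card (YY h j) ^ 2 := by
  rw [card_blk' h spl, card_YY h spl]

theorem YY_ne (j : Fin k) : YY h j ≠ ⊥ := by
  intro h0
  obtain ⟨w, hw, hwj⟩ := exists_blk_e h j ![1, 0]
  have h1 : w ∈ YY h j := ⟨hw, by rw [hwj]; rfl⟩
  rw [h0, mem_bot] at h1
  rw [h1, Nb.e_one (M := M)] at hwj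
  exact one_ne_zero (congrFun hwj 0).symm

/-! ### Elements which induce root elements -/

theorem exists_B {i : Fin k} {g : G} (hg : g ∈ P) (hn : ∀ v ∈ blk M i, g * v * g⁻¹ ∈ blk M i)
    (A : Matrix.SpecialLinearGroup (Fin 2) F) : ∃ B : Matrix.SpecialLinearGroup (Fin 2) F,
      ∀ v ∈ blk M i, ∀ w ∈ blk M i, M.e w i = ap A (M.e v i) →
        M.e (g * w * g⁻¹) i = ap B (M.e (g * v * g⁻¹) i) := by
  obtain ⟨c, hc, hcA⟩ := M.lift (sg i A)
  obtain ⟨B, hB⟩ := M.norm g hg c hc _ hcA.1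
  refine ⟨B i, fun v hv w hw hvw => ?_⟩
  have h1 : w = c * v * c⁻¹ := by
    refine blk_ext h spl hw (conj_blk h hc hcA hv) ?_
    rw [hvw, e_conj_blk h hcA hv]
  have h2 := hB (g * v * g⁻¹) (blk_le h i (hn v hv)) i
  have e : g * c * g⁻¹ * (g * v * g⁻¹) * (g * c * g⁻¹)⁻¹ = g * (c * v * c⁻¹) * g⁻¹ := by group
  rw [e] at h2
  rw [h1, h2]

theorem root {g : G} (hg : g ∈ P) {n : ℕ} (hgn : g ^ 2 ^ n = 1) {i : Fin k}
    (hc : ∀ v ∈ blk M i, g * v * g⁻¹ * v⁻¹ ∈ YY h i) :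
    (∀ v ∈ blk M i, g * v = v * g) ∨ ∀ z ∈ YY h i, ∃ v ∈ blk M i, g * v * g⁻¹ * v⁻¹ = z := by
  have hn : ∀ v ∈ blk M i, g * v * g⁻¹ ∈ blk M i := fun v hv => by
    have e : g * v * g⁻¹ = g * v * g⁻¹ * v⁻¹ * v := by group
    rw [e]; exact mul_mem (YY_le h i (hc v hv)) hv
  have h1 : ∀ v ∈ blk M i, M.e (g * v * g⁻¹) i 1 = M.e v i 1 := fun v hv => by
    have h2 := (hc v hv).2
    rw [h.e_div (blk_le h i (hn v hv)) (blk_le h i hv), Pi.add_apply, Pi.add_apply] at h2
    exact CharTwo.add_eq_zero.1 h2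
  choose s hs hse using fun x => exists_blk_e (M := M) h i x
  have hadd : ∀ v ∈ blk M i, ∀ w ∈ blk M i, M.e (g * (v * w) * g⁻¹) i = M.e (g * v * g⁻¹) i + M.e (g * w * g⁻¹) i :=
    fun v hv w hw => by rw [e_conj_mul h hg (blk_le h i hv) (blk_le h i hw), Pi.add_apply]
  have hsadd : ∀ x y, s (x + y) = s x * s y := fun x y => by
    refine blk_ext h spl (hs _) (mul_mem (hs _) (hs _)) ?_
    rw [M.mul _ (blk_le h i (hs _)) _ (blk_le h i (hs _)), Pi.add_apply, hse, hse, hse]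
  have hsu : ∀ v ∈ blk M i, v = s (M.e v i) := fun v hv => blk_ext h spl hv (hs _) (by rw [hse])
  set α : F → F := fun t => M.e (g * s ![t, 0] * g⁻¹) i 0 with hα
  set β : F → F := fun t => M.e (g * s ![0, t] * g⁻¹) i 0 with hβ
  have hφ0 : ∀ t, M.e (g * s ![t, 0] * g⁻¹) i = ![α t, 0] := fun t => vec_eq rfl (by rw [h1 _ (hs _), hse]; rfl)
  have hφ1 : ∀ t, M.e (g * s ![0, t] * g⁻¹) i = ![β t, t] := fun t => vec_eq rfl (by rw [h1 _ (hs _), hse]; rfl)
  have hφ : ∀ x y, M.e (g * s ![x, y] * g⁻¹) i = ![α x + β y, y] := fun x y => by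
    have e : (![x, y] : Fin 2 → F) = ![x, 0] + ![0, y] := by
      refine vec_eq ?_ ?_ <;> simp
    rw [e, hsadd, hadd _ (hs _) _ (hs _), hφ0, hφ1]
    refine vec_eq ?_ ?_ <;> simp
  have hα1 : α 1 ≠ 0 := by
    intro h0
    have h2 := hφ0 1
    rw [h0] at h2
    have h3 : g * s ![1, 0] * g⁻¹ = 1 := by
      refine blk_ext h spl (hn _ (hs _)) (one_mem _) ?_
      rw [h2, Nb.e_one (M := M)]
      refine vec_eq ?_ ?_ <;> simp
    have h4 : s ![1, 0] = 1 := by
      have e : s ![1, 0] = g⁻¹ * (g * s ![1, 0] * g⁻¹) * g := by group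
      rw [e, h3]; group
    have h5 := hse ![1, 0]
    rw [h4, Nb.e_one (M := M)] at h5
    exact one_ne_zero (congrFun h5 0).symm
  -- `α` is linear
  have hlin : ∀ c y, α (c * y) = α c * y := by
    intro c
    obtain ⟨B, hB⟩ := exists_B h spl hg hn (up c)
    have k1 := hB (s ![1, 0]) (hs _) (s ![1, 0]) (hs _) (by
      rw [hse]; refine vec_eq ?_ ?_
      · rw [ap_up_0]; simp
      · rw [ap_up_1])
    rw [hφ0] at k1
    have k10 := congrFun k1 0
    have k11 := congrFun k1 1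
    rw [ap_zero'] at k10
    rw [ap_one'] at k11
    simp only [Matrix.cons_val_zero, Matrix.cons_val_one, mul_zero, add_zero] at k10 k11
    have b10 : ent B 1 0 = 0 := by
      rcases mul_eq_zero.1 k11.symm with h2 | h2
      · exact h2
      · exact absurd h2 hα1
    have b00 : ent B 0 0 = 1 := mul_right_cancel₀ hα1 (by rw [one_mul]; exact k10.symm)
    have key : ∀ y, α (c * y) = ent B 0 1 * y := by
      intro y
      have k2 := hB (s ![0, y]) (hs _) (s ![c * y, y]) (hs _) (by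
        rw [hse, hse]; refine vec_eq ?_ ?_
        · rw [ap_up_0]; simp
        · rw [ap_up_1]; simp)
      rw [hφ, hφ1] at k2
      have k3 := congrFun k2 0
      rw [ap_zero'] at k3
      simp only [Matrix.cons_val_zero, Matrix.cons_val_one] at k3
      rw [b00, one_mul, add_comm] at k3
      exact add_left_cancel k3
    intro y
    have k4 := key 1
    rw [mul_one, mul_one] at k4
    rw [key, k4]
  have hα' : ∀ t, α t = α 1 * t := fun t => by
    have := hlin 1 t
    rwa [one_mul] at this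
  -- `α 1 = 1`
  have hpow : ∀ m : ℕ, ∀ t, M.e (g ^ m * s ![t, 0] * (g ^ m)⁻¹) i = ![α 1 ^ m * t, 0] ∧
      g ^ m * s ![t, 0] * (g ^ m)⁻¹ ∈ blk M i := by
    intro m
    induction m with
    | zero =>
      intro t
      rw [pow_zero, inv_one, one_mul, mul_one, pow_zero, one_mul]
      exact ⟨hse _, hs _⟩
    | succ m ih =>
      intro t
      obtain ⟨h2, h3⟩ := ih t
      have e : g ^ (m + 1) * s ![t, 0] * (g ^ (m + 1))⁻¹ = g * (g ^ m * s ![t, 0] * (g ^ m)⁻¹) * g⁻¹ := by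
        rw [pow_succ']; group
      have e2 : g ^ m * s ![t, 0] * (g ^ m)⁻¹ = s ![α 1 ^ m * t, 0] := by
        refine blk_ext h spl h3 (hs _) ?_
        rw [h2, hse]
      rw [e, e2]
      refine ⟨?_, hn _ (hs _)⟩
      rw [hφ0, hα']
      refine vec_eq ?_ ?_
      · simp only [Matrix.cons_val_zero]
        ring
      · rfl
  have hα11 : α 1 = 1 := by
    have h2 := (hpow (2 ^ n) 1).1
    rw [hgn, inv_one, one_mul, mul_one, hse] at h2
    have h3 := congrFun h2 0
    simp only [Matrix.cons_val_zero, mul_one] at h3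
    have h4 : (α 1 + 1) ^ 2 ^ n = 0 := by
      rw [add_pow_char_pow, ← h3, one_pow]
      exact CharTwo.add_self_eq_zero _
    exact CharTwo.add_eq_zero.1 (eq_zero_of_pow_eq_zero h4)
  have hα0 : ∀ t, α t = t := fun t => by rw [hα', hα11, one_mul]
  -- `β` is linear
  obtain ⟨b, hb⟩ : ∃ b, ∀ t, β t = b * t := by
    obtain ⟨B, hB⟩ := exists_B h spl hg hn (lo 1)
    refine ⟨ent B 0 0 + 1, fun t => ?_⟩
    have k1 := hB (s ![t, 0]) (hs _) (s ![t, t]) (hs _) (by
      rw [hse, hse]; refine vec_eq ?_ ?_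
      · rw [ap_lo_0]; rfl
      · rw [ap_lo_1]; simp)
    rw [hφ, hφ0, hα0] at k1
    have k2 := congrFun k1 0
    rw [ap_zero'] at k2
    simp only [Matrix.cons_val_zero, Matrix.cons_val_one, mul_zero, add_zero] at k2
    have k3 : β t = t + (t + β t) := by rw [← add_assoc, CharTwo.add_self_eq_zero, zero_add]
    rw [k3, k2]
    ring
  have hfin : ∀ v ∈ blk M i, M.e (g * v * g⁻¹) i = ![M.e v i 0 + b * M.e v i 1, M.e v i 1] := by
    intro v hv
    have e1 : v = s ![M.e v i 0, M.e v i 1] := by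
      refine blk_ext h spl hv (hs _) ?_
      rw [hse]
      refine vec_eq ?_ ?_ <;> simp
    conv_lhs => rw [e1]
    rw [hφ, hα0, hb]
  by_cases hb0 : b = 0
  · left
    intro v hv
    have h2 : g * v * g⁻¹ = v := by
      refine blk_ext h spl (hn v hv) hv ?_
      rw [hfin v hv, hb0, zero_mul, add_zero]
      refine vec_eq ?_ ?_ <;> simp
    exact mul_inv_eq_iff_eq_mul.1 h2
  · right
    intro z hz
    refine ⟨s ![0, b⁻¹ * M.e z i 0], hs _, ?_⟩
    have hx := hs ![0, b⁻¹ * M.e z i 0]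
    refine blk_ext h spl (mul_mem (hn _ hx) (inv_mem hx)) hz.1 ?_
    rw [h.e_div (blk_le h i (hn _ hx)) (blk_le h i hx), Pi.add_apply, hfin _ hx, hse]
    refine vec_eq ?_ ?_
    · simp only [Pi.add_apply, Matrix.cons_val_zero, Matrix.cons_val_one, zero_add, add_zero]
      rw [mul_inv_cancel_left₀ hb0]
    · simp only [Pi.add_apply, Matrix.cons_val_zero, Matrix.cons_val_one]
      rw [CharTwo.add_self_eq_zero]
      exact hz.2.symm

/-! ### Irreducibility -/

/-- a `P`-invariant subgroup with an element moved by the `i`-th factor contains `blk M i` -/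
theorem blk_le_of {U : Subgroup G} (hUV : U ≤ V) (hPU : P ≤ normalizer (U : Set G)) {u : G} (hu : u ∈ U) {i : Fin k}
    (hui : M.e u i ≠ 0) : blk M i ≤ U := by
  choose s hs hse using fun x => exists_blk_e (M := M) h i x
  -- the set of reached vectors
  have hconj : ∀ c ∈ P, ∀ x ∈ U, c * x * c⁻¹ ∈ U := fun c hc x hx => (mem_normalizer_iff.1 (hPU hc) x).1 hx
  have hact : ∀ A x, s x ∈ U → s (ap A x) ∈ U := by
    intro A x hx
    obtain ⟨c, hc, hcA⟩ := M.lift (sg i A)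
    have e : s (ap A x) = c * s x * c⁻¹ := by
      refine blk_ext h spl (hs _) (conj_blk h hc hcA (hs _)) ?_
      rw [hse, e_conj_blk h hcA (hs _), hse]
    rw [e]
    exact hconj c hc _ hx
  have hadd : ∀ x y, s x ∈ U → s y ∈ U → s (x + y) ∈ U := fun x y hx hy => by
    have e : s (x + y) = s x * s y := by
      refine blk_ext h spl (hs _) (mul_mem (hs _) (hs _)) ?_
      rw [M.mul _ (blk_le h i (hs _)) _ (blk_le h i (hs _)), Pi.add_apply, hse, hse, hse]
    rw [e]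
    exact mul_mem hx hy
  have hcomm : ∀ A, s (ap A (M.e u i) + M.e u i) ∈ U := by
    intro A
    obtain ⟨c, hc, hcA⟩ := M.lift (sg i A)
    have e : s (ap A (M.e u i) + M.e u i) = c * u * c⁻¹ * u⁻¹ := by
      refine blk_ext h spl (hs _) (mem_blk hc hcA (hUV hu)) ?_
      rw [hse, h.e_div (h.memV hc (hUV hu)) (hUV hu), Pi.add_apply, hcA.1 u (hUV hu) i, sg_self]
    rw [e]
    exact mul_mem (hconj c hc u hu) (inv_mem hu)
  -- from a line to everything
  have hall0 : (∀ t, s ![t, 0] ∈ U) → ∀ x, s x ∈ U := by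
    intro ht x
    have h1 : ∀ t, s ![0, t] ∈ U := fun t => by
      have h2 := hadd _ _ (hact (lo 1) _ (ht t)) (ht t)
      have e : ap (lo 1) ![t, 0] + ![t, 0] = ![0, t] := by
        refine vec_eq ?_ ?_
        · rw [Pi.add_apply, ap_lo_0]; exact CharTwo.add_self_eq_zero _
        · rw [Pi.add_apply, ap_lo_1]; simp
      rwa [e] at h2
    have h3 := hadd _ _ (ht (x 0)) (h1 (x 1))
    have e : (![x 0, 0] + ![0, x 1] : Fin 2 → F) = x := by
      refine vec_eq ?_ ?_ <;> simp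
    rwa [e] at h3
  have hall1 : (∀ t, s ![0, t] ∈ U) → ∀ x, s x ∈ U := by
    intro ht
    refine hall0 fun t => ?_
    have h2 := hadd _ _ (hact (up 1) _ (ht t)) (ht t)
    have e : ap (up 1) ![0, t] + ![0, t] = ![t, 0] := by
      refine vec_eq ?_ ?_
      · rw [Pi.add_apply, ap_up_0]; simp
      · rw [Pi.add_apply, ap_up_1]; exact CharTwo.add_self_eq_zero _
    rwa [e] at h2
  have hfin : ∀ x, s x ∈ U := by
    by_cases h1 : M.e u i 1 = 0
    · have h0 : M.e u i 0 ≠ 0 := fun h0 => hui (vec_eq h0 h1)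
      refine hall1 fun t => ?_
      have h2 := hcomm (lo (t * (M.e u i 0)⁻¹))
      have e : ap (lo (t * (M.e u i 0)⁻¹)) (M.e u i) + M.e u i = ![0, t] := by
        refine vec_eq ?_ ?_
        · rw [Pi.add_apply, ap_lo_0]; exact CharTwo.add_self_eq_zero _
        · rw [Pi.add_apply, ap_lo_1, inv_mul_cancel_right₀ h0, add_assoc, CharTwo.add_self_eq_zero, add_zero]; rfl
      rwa [e] at h2
    · refine hall0 fun t => ?_
      have h2 := hcomm (up (t * (M.e u i 1)⁻¹))
      have e : ap (up (t * (M.e u i 1)⁻¹)) (M.e u i) + M.e u i = ![t, 0] := by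
        refine vec_eq ?_ ?_
        · rw [Pi.add_apply, ap_up_0, inv_mul_cancel_right₀ h1, add_comm (M.e u i 0) t, add_assoc,
            CharTwo.add_self_eq_zero, add_zero]; rfl
        · rw [Pi.add_apply, ap_up_1]; exact CharTwo.add_self_eq_zero _
      rwa [e] at h2
  intro v hv
  have e : v = s (M.e v i) := blk_ext h spl hv (hs _) (by rw [hse])
  rw [e]
  exact hfin _

theorem irr {U : Subgroup G} (hU : U ≤ ⨆ j, blk M j) (hPU : P ≤ normalizer (U : Set G)) (hne : U ≠ ⊥) :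
    U = ⨆ j, blk M j := by
  obtain ⟨⟨u, hu⟩, hu1⟩ := (Subgroup.ne_bot_iff_exists_ne_one).1 hne
  have hu1' : u ≠ 1 := fun h0 => hu1 (Subtype.ext h0)
  have hex : ∃ i, M.e u i ≠ 0 := by
    by_contra hcon
    push Not at hcon
    exact hu1' (ext h spl (hU hu) (one_mem _) (by rw [Nb.e_one (M := M)]; exact funext hcon))
  obtain ⟨i, hi⟩ := hex
  have h1 := blk_le_of h spl (hU.trans (sup_le_V h)) hPU hu hi
  refine le_antisymm hU (iSup_le fun j => ?_)
  obtain ⟨t, ht, e⟩ := trans h spl i j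
  rw [← e]
  calc cj t (blk M i) ≤ cj t U := cj_mono t h1
    _ = U := cj_eq_of_mem_normalizer (hPU (h.SP' ht))

/-! ### Offenders -/

/-- a family of root elements acts on a block -/
theorem acts_blk {f : G} (hf : f ∈ P) {b : Fin k → F} (hb : ActsSL M.e V D f fun i => up (b i)) {i : Fin k} {v : G}
    (hv : v ∈ blk M i) : f * v * f⁻¹ ∈ blk M i ∧ M.e (f * v * f⁻¹) i = ![M.e v i 0 + b i * M.e v i 1, M.e v i 1] := by
  refine ⟨(mem_blk_iff h spl).2 ⟨conj_iSup_blk h hf ((le_iSup (blk M) i : blk M i ≤ _) hv), fun l hl => ?_⟩, ?_⟩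
  · rw [hb.1 v (blk_le h i hv) l, e_blk h hl hv, ap_zr]
  · rw [hb.1 v (blk_le h i hv) i]
    exact vec_eq (ap_up_0 _ _) (ap_up_1 _ _)

/-- **offenders in `S` are products of full root groups** -/
theorem rootOn {A : Subgroup G} (hA : A ≤ S) (ho : OffM V A) (i : Fin k) : RootOn A (blk M i) (YY h i) := by
  obtain ⟨I, h1, h2⟩ := M.offM A hA ho
  have hAP : A ≤ P := hA.trans h.SP'
  have hnorm : ∀ f ∈ A, ∀ v ∈ blk M i, f * v * f⁻¹ ∈ blk M i := fun f hf v hv => by
    obtain ⟨b, -, hb⟩ := h1 f hf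
    exact (acts_blk h spl (hAP hf) hb hv).1
  have hcent : ∀ f ∈ A, ∀ b : Fin k → F, ActsSL M.e V D f (fun i => up (b i)) → b i = 0 → ∀ v ∈ blk M i,
      f * v = v * f := by
    intro f hf b hb hb0 v hv
    obtain ⟨h3, h4⟩ := acts_blk h spl (hAP hf) hb hv
    have h5 : f * v * f⁻¹ = v := by
      refine blk_ext h spl h3 hv ?_
      rw [h4, hb0, zero_mul, add_zero]
      refine vec_eq ?_ ?_ <;> simp
    exact mul_inv_eq_iff_eq_mul.1 h5
  have he : ∀ f ∈ A, ∀ b : Fin k → F, ActsSL M.e V D f (fun i => up (b i)) → ∀ v ∈ blk M i,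
      M.e (f * v * f⁻¹ * v⁻¹) i = ![b i * M.e v i 1, 0] := by
    intro f hf b hb v hv
    obtain ⟨h3, h4⟩ := acts_blk h spl (hAP hf) hb hv
    rw [h.e_div (blk_le h i h3) (blk_le h i hv), Pi.add_apply, h4]
    refine vec_eq ?_ ?_
    · simp only [Pi.add_apply, Matrix.cons_val_zero]
      rw [add_comm (M.e v i 0), add_assoc, CharTwo.add_self_eq_zero, add_zero]
    · simp only [Pi.add_apply, Matrix.cons_val_one]
      exact CharTwo.add_self_eq_zero _
  constructor
  · intro f hf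
    refine mem_normalizer_iff.2 fun v => ⟨hnorm f hf v, fun hv => ?_⟩
    have h3 := hnorm f⁻¹ (inv_mem hf) _ hv
    have e : f⁻¹ * (f * v * f⁻¹) * f⁻¹⁻¹ = v := by group
    rwa [e] at h3
  · intro f hf z hz
    obtain ⟨b, -, hb⟩ := h1 f hf
    have h3 : f * z * f⁻¹ = z := by
      refine blk_ext h spl (hnorm f hf z hz.1) hz.1 ?_
      rw [(acts_blk h spl (hAP hf) hb hz.1).2, hz.2, mul_zero, add_zero]
      exact vec_eq rfl hz.2.symm
    exact mul_inv_eq_iff_eq_mul.1 h3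
  · intro f hf v hv
    obtain ⟨b, -, hb⟩ := h1 f hf
    exact ⟨mul_mem (hnorm f hf v hv) (inv_mem hv), by rw [he f hf b hb v hv]; rfl⟩
  · by_cases hi : i ∈ I
    · right
      intro v hv hvY
      have hv1 : M.e v i 1 ≠ 0 := fun h0 => hvY ⟨hv, h0⟩
      refine ⟨fun z hz => ?_, fun f hf hfv => ?_⟩
      · classical
        obtain ⟨f, hf, hb⟩ := h2 (Function.update 0 i (M.e z i 0 * (M.e v i 1)⁻¹)) fun l hl => by
          have hli : l ≠ i := fun h0 => hl (by rw [h0]; exact hi)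
          exact Function.update_of_ne hli _ _
        refine ⟨f, hf, ?_⟩
        refine blk_ext h spl (mul_mem (hnorm f hf v hv) (inv_mem hv)) hz.1 ?_
        rw [he f hf _ hb v hv, Function.update_self, inv_mul_cancel_right₀ hv1]
        exact vec_eq rfl hz.2.symm
      · obtain ⟨b, -, hb⟩ := h1 f hf
        have h3 : f * v * f⁻¹ * v⁻¹ = 1 := by rw [hfv]; group
        have h4 := he f hf b hb v hv
        rw [h3, Nb.e_one (M := M)] at h4
        have h5 := congrFun h4 0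
        simp only [Matrix.cons_val_zero] at h5
        have h6 : b i = 0 := (mul_eq_zero.1 h5.symm).resolve_right hv1
        exact mem_centralizer_iff.2 fun w hw => (hcent f hf b hb h6 w hw).symm
    · left
      intro f hf
      obtain ⟨b, hb0, hb⟩ := h1 f hf
      exact mem_centralizer_iff.2 fun w hw => (hcent f hf b hb (hb0 i hi) w hw).symm

/-! ### Fixed vectors -/

theorem mem_iSup_YY {v : G} (hv : v ∈ ⨆ j, blk M j) (h0 : ∀ l, M.e v l 1 = 0) : v ∈ ⨆ j, YY h j := by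
  classical
  have hYV : ∀ j, YY h j ≤ V := YY_le_V h
  have key : ∀ s : Finset (Fin k), ∃ w ∈ ⨆ j, YY h j, ∀ j, M.e w j = if j ∈ s then M.e v j else 0 := by
    intro s
    induction s using Finset.induction_on with
    | empty => exact ⟨1, one_mem _, fun j => by rw [Nb.e_one (M := M)]; simp⟩
    | insert a s ha ih =>
      obtain ⟨w, hw, hwe⟩ := ih
      obtain ⟨y, hy, hya⟩ := exists_blk_e h a (M.e v a)
      have hyY : y ∈ YY h a := ⟨hy, by rw [hya]; exact h0 a⟩
      have hwV : w ∈ V := (iSup_le hYV : (⨆ j, YY h j) ≤ V) hw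
      refine ⟨y * w, mul_mem ((le_iSup (YY h) a : YY h a ≤ _) hyY) hw, fun j => ?_⟩
      rw [M.mul _ (blk_le h a hy) _ hwV, Pi.add_apply, hwe]
      by_cases hja : j = a
      · subst hja
        rw [hya, if_neg ha, add_zero, if_pos (Finset.mem_insert_self _ _)]
      · rw [e_blk h hja hy, zero_add]
        simp only [Finset.mem_insert, hja, false_or]
  obtain ⟨w, hw, hwe⟩ := key Finset.univ
  have hYb : (⨆ j, YY h j) ≤ ⨆ j, blk M j := iSup_mono (YY_le h)
  have e : v = w := ext h spl hv (hYb hw) (funext fun j => by rw [hwe]; simp)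
  rw [e]
  exact hw

/-- **a vector of `⨆ blk M j` fixed by `S` is in `⨆ YY h j` and has all components `≠ 1`** -/
theorem vec {z : G} (hz : z ∈ ⨆ j, blk M j) (hzS : ∀ s ∈ S, s * z = z * s) (hz1 : z ≠ 1) :
    z ∈ (⨆ j, YY h j) ∧ ∀ i, z ∉ ⨆ (j) (_ : j ≠ i), blk M j := by
  have hzV := sup_le_V h hz
  constructor
  · refine mem_iSup_YY h spl hz fun l => ?_
    classical
    obtain ⟨t, ht, hta⟩ := M.unip (Function.update 0 l 1)
    have h1 := hta.1 z hzV l
    rw [show t * z * t⁻¹ = z by rw [hzS t ht]; group] at h1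
    have h2 := congrFun h1 0
    simp only [Function.update_self] at h2
    rw [ap_up_0, one_mul] at h2
    exact left_eq_add.1 h2
  · intro i hi
    have h0 := e_off h hi
    apply hz1
    refine ext h spl hz (one_mem _) ?_
    rw [Nb.e_one (M := M)]
    funext j
    obtain ⟨t, ht, h1⟩ := M.trans i j
    have h2 := (h1 z hzV).2 h0
    rwa [show t * z * t⁻¹ = z by rw [hzS t ht]; group] at h2

end Cfsg.Agent.Omega.NOThreeL.RWide.PNat

end

section


/-!
# The instance of `PIn` in box R, left case (helper540; head of the socket: helper278, #25393)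

`P ∈ P*(S)` with natural modules without radical, `X ≤ Z` nontrivial and centralised by `P` (`X = Z ∩ W_j`):
`D = C_G(Z)`, `N = F_{C(X)}`, `V i = blk M i`, `Z i = YY h i`.

* `offM_of_best` : a best offender of `S` on `⨆ blk` which acts nontrivially is an offender on `V_P` (module form);
* `ffp` : so it is a product of full root groups;
* **`pin_of`** : `PIn S (C_G(Z)) P (F_{C(X)}) (blk M) (YY h)`, from `mov` (`AA(O₂(C_G(Z)))` moves `⨆ blk`) and `permN`
  (`N_G(S)` permutes the pairs `(blk M i, YY h i)`).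
-/

set_option autoImplicit false
set_option linter.unusedSectionVars false

namespace Cfsg.Agent.Omega.NOThreeL.RWide.PInst

open Subgroup Cfsg Cfsg.Agent.ZN Cfsg.Agent.ZN.ChoiceBase
open Cfsg.Agent.Omega.FFThm Cfsg.Agent.Lib.SL2Mat
open Cfsg.Agent.Omega.MinPar Cfsg.Agent.Omega.Frame Cfsg.Agent.Omega.FrameNOFF
open Cfsg.Agent.Omega.FrameFF (cv)
open Cfsg.Agent.Omega.Node.NO3L Cfsg.Agent.Omega.NOThreeL.Basic
open Cfsg.Agent.Omega.NO3S.ThmB hiding WP
open Cfsg.Agent.Omega.NO3S.KeyRad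
open Cfsg.Agent.Omega.NOThreeL.RRed.NS
open Cfsg.Agent.Omega.NOThreeL.RTree (RB)
open Cfsg.Agent.Omega.OmThm.SideBase (card_sup_comm)
open Cfsg.Agent.MinSimple.VModule (zl_le le_normalizer_zl zc_le_zl o2_isPGroup le_normalizer_o2)

universe u

variable {G : Type u} [Group G]

section off

variable [Finite G] {W V Z A : Subgroup G}

/-- a best offender on `W`, `V = W Z`, `A` centralises `Z` -/
theorem offM_of_best (hWV : W ≤ V) (hZV : Z ≤ V) (hV : V ≤ W ⊔ Z) (hc : ∀ a ∈ V, ∀ b ∈ V, a * b = b * a)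
    (hZA : ∀ z ∈ Z, ∀ a ∈ A, a * z = z * a) (hb : IsBestOffenderOn 2 W A)
    (hne : ¬ A ≤ centralizer (W : Set G)) : OffM V A := by
  have hVe : V = W ⊔ Z := le_antisymm hV (sup_le hWV hZV)
  have hcent : ∀ a : G, (∀ z ∈ Z, a * z = z * a) → a ∈ centralizer (W : Set G) → a ∈ centralizer (V : Set G) := by
    intro a haZ haW
    have h1 : V ≤ centralizer ({a} : Set G) := by
      rw [hVe]
      exact sup_le (fun w hw => mem_centralizer_singleton_iff.2 (mem_centralizer_iff.1 haW w hw))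
        (fun z hz => mem_centralizer_singleton_iff.2 (haZ z hz).symm)
    exact mem_centralizer_iff.2 fun v hv => mem_centralizer_singleton_iff.1 (h1 hv)
  have hAZ : ∀ a ∈ A, ∀ z ∈ Z, a * z = z * a := fun a ha z hz => hZA z hz a ha
  have hel : ElemM V A := by
    constructor
    · intro a ha
      exact hcent _ (fun z hz => hAZ _ (pow_mem ha 2) z hz) (hb.2.2 a ha)
    · intro a ha b hb'
      refine hcent _ (fun z hz => hAZ _ (mul_mem (mul_mem (mul_mem ha hb') (inv_mem ha)) (inv_mem hb')) z hz) ?_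
      have h1 := hb.2.1 (commutator_mem_commutator ha hb')
      rwa [commutatorElement_def] at h1
  have hCe : A ⊓ centralizer (V : Set G) = A ⊓ centralizer (W : Set G) :=
    le_antisymm (le_inf inf_le_left (inf_le_right.trans (centralizer_le hWV)))
      (le_inf inf_le_left fun a ha => hcent a (fun z hz => hAZ a ha.1 z hz) ha.2)
  have hDe : V ⊓ centralizer (A : Set G) = (W ⊓ centralizer (A : Set G)) ⊔ Z := by
    apply le_antisymm
    · rintro v ⟨hv, hvA⟩
      have h2 : W ≤ normalizer (Z : Set G) := fun w hw =>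
        centralizer_le_normalizer _ (mem_centralizer_iff.2 fun z hz => hc z (hZV hz) w (hWV hw))
      have h3 : v ∈ ((W ⊔ Z : Subgroup G) : Set G) := hVe ▸ hv
      rw [coe_mul_of_left_le_normalizer_right _ _ h2] at h3
      obtain ⟨w, hw, z, hz, e⟩ := h3
      have e' : w * z = v := e
      have hwe : w = v * z⁻¹ := by rw [← e']; group
      have hz' : z ∈ centralizer (A : Set G) := mem_centralizer_iff.2 fun a ha => hAZ a ha z hz
      have hw' : w ∈ centralizer (A : Set G) := by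
        rw [hwe]
        exact mul_mem hvA (inv_mem hz')
      rw [← e']
      exact mul_mem (mem_sup_left ⟨hw, hw'⟩) (mem_sup_right hz)
    · exact sup_le (inf_le_inf_right _ hWV) (le_inf hZV fun z hz => mem_centralizer_iff.2 fun a ha => hAZ a ha z hz)
  have hi : W ⊓ centralizer (A : Set G) ⊓ Z = W ⊓ Z :=
    le_antisymm (inf_le_inf_right _ inf_le_left) fun x hx =>
      ⟨⟨hx.1, mem_centralizer_iff.2 fun a ha => hAZ a ha x hx.2⟩, hx.2⟩
  have c1 := card_sup_comm (A := W) (B := Z) fun a ha b hb => hc a (hWV ha) b (hZV hb)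
  have c2 := card_sup_comm (A := W ⊓ centralizer (A : Set G)) (B := Z) fun a ha b hb =>
    hc a (hWV ha.1) b (hZV hb)
  rw [hi, ← hDe] at c2
  rw [← hVe] at c1
  have c3 := hb.1 (A ⊓ centralizer (W : Set G)) inf_le_left
  have h4 : W ⊓ centralizer ((A ⊓ centralizer (W : Set G) : Subgroup G) : Set G) = W :=
    inf_eq_left.2 fun w hw => mem_centralizer_iff.2 fun a ha => (mem_centralizer_iff.1 ha.2 w hw).symm
  rw [h4] at c3
  have hpos : 0 < Nat.card ↥(W ⊓ Z) := Nat.card_pos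
  refine ⟨hel, fun h0 => hne (h0.trans (centralizer_le hWV)), ?_⟩
  rw [hCe]
  refine Nat.le_of_mul_le_mul_right (c := Nat.card ↥(W ⊓ Z)) ?_ hpos
  calc Nat.card V * Nat.card ↥(A ⊓ centralizer (W : Set G)) * Nat.card ↥(W ⊓ Z)
      = Nat.card ↥(A ⊓ centralizer (W : Set G)) * (Nat.card V * Nat.card ↥(W ⊓ Z)) := by ring
    _ = Nat.card ↥(A ⊓ centralizer (W : Set G)) * Nat.card W * Nat.card Z := by rw [c1]; ring
    _ ≤ Nat.card A * Nat.card ↥(W ⊓ centralizer (A : Set G)) * Nat.card Z := Nat.mul_le_mul_right _ c3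
    _ = Nat.card A * (Nat.card ↥(V ⊓ centralizer (A : Set G)) * Nat.card ↥(W ⊓ Z)) := by rw [c2]; ring
    _ = Nat.card A * Nat.card ↥(V ⊓ centralizer (A : Set G)) * Nat.card ↥(W ⊓ Z) := by ring

end off

/-- trivial action -/
theorem rootOn_of_triv {F V Z : Subgroup G} (hZ : Z ≤ V) (h : F ≤ centralizer (V : Set G)) : RootOn F V Z := by
  refine ⟨h.trans (centralizer_le_normalizer _), fun f hf z hz => ?_, fun f hf v hv => ?_, Or.inl h⟩
  · exact (mem_centralizer_iff.1 (h hf) z (hZ hz)).symm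
  · have h1 := mem_centralizer_iff.1 (h hf) v hv
    rw [← h1, mul_inv_cancel_right, mul_inv_cancel]
    exact one_mem _

section inst

variable [Finite G] {S : Sylow 2 G} {P X : Subgroup G} {F : Type} [Field F] [CharP F 2] {k : ℕ}
  {M : NatKM F (S : Subgroup G) P (zl (S : Subgroup G) P) (cv (S : Subgroup G) P) k} (h : Nb M)
  (spl : ∀ j, DD M j = ⊥)
include h spl

theorem le_sup : zl (S : Subgroup G) P ≤ (⨆ j, blk M j) ⊔ zc (S : Subgroup G) := by
  by_contra hcon
  obtain ⟨j, hj⟩ := exists_blk h (Z := zc (S : Subgroup G)) (E := (⨆ j, blk M j) ⊔ zc (S : Subgroup G))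
    (zc_le_zl _ _) (fun z hz s hs => (ChoiceBase.mem_zc.1 hz).2.2 s hs) (fun K hK hPK => MinSimple.VModule.zl_le hK hPK) le_sup_right hcon
  exact hj ((le_iSup (blk M) j : blk M j ≤ _).trans le_sup_left)

theorem ffp {A : Subgroup G} (hA : A ≤ S) (hb : IsBestOffenderOn 2 (⨆ j, blk M j) A) (i : Fin k) :
    RootOn A (blk M i) (YY h i) := by
  by_cases hne : A ≤ centralizer ((⨆ j, blk M j : Subgroup G) : Set G)
  · exact rootOn_of_triv (YY_le h i) (hne.trans (centralizer_le (le_iSup (blk M) i : blk M i ≤ _)))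
  · refine PNat.rootOn h spl hA (offM_of_best (PNat.sup_le_V h) (zc_le_zl _ _) (le_sup h spl)
      (fun a ha b hb => h.cm ha hb) (fun z hz a ha => (ChoiceBase.mem_zc.1 hz).2.2 a (hA ha)) hb hne) i

/-- a vector of `Z ∩ ⨆ Y` with all components -/
theorem exists_vec (hVS : zl (S : Subgroup G) P ≤ S) (hk : 0 < k) :
    ∃ z : G, z ∈ zc (S : Subgroup G) ∧ z ∈ (⨆ j, YY h j) ∧ ∀ i, z ∉ ⨆ (j) (_ : j ≠ i), blk M j := by
  have hf : Fact (Nat.Prime 2) := ⟨Nat.prime_two⟩
  have hV := PNat.sup_le_V h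
  have hne : (⨆ j, blk M j) ≠ ⊥ := fun h0 => PNat.YY_ne h spl ⟨0, hk⟩
    (le_bot_iff.1 (((YY_le h ⟨0, hk⟩).trans (le_iSup (blk M) ⟨0, hk⟩ : blk M ⟨0, hk⟩ ≤ _)).trans h0.le))
  have h1 := PLocal.OffenderStep.inf_centralizer_ne_bot _ (S : Subgroup G) (S.isPGroup'.to_le (hV.trans hVS))
    S.isPGroup' (h.SP'.trans (iSup_blk_norm h)) hne
  obtain ⟨c, hc1⟩ := Subgroup.ne_bot_iff_exists_ne_one.1 h1
  have hc1' : (c : G) ≠ 1 := fun h0 => hc1 (Subtype.ext h0)
  have hcS : ∀ s ∈ (S : Subgroup G), s * (c : G) = c * s := fun s hs => mem_centralizer_iff.1 c.2.2 s hs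
  obtain ⟨h2, h3⟩ := PNat.vec h spl c.2.1 hcS hc1'
  refine ⟨c, ChoiceBase.mem_zc.2 ⟨hVS (hV c.2.1), ?_, hcS⟩, h2, h3⟩
  rw [pow_two]
  exact h.sq (hV c.2.1)

/-- **the instance of `PIn`** -/
theorem pin_of (hB : RB S) (hP : IsParS (S : Subgroup G) P) (hk : 0 < k) (hX : X ≤ zc (S : Subgroup G))
    (hX1 : X ≠ ⊥) (hPX : P ≤ centralizer (X : Set G))
    (mov : ∃ A ∈ AA (o2 (CZ (S : Subgroup G))), ¬ A ≤ centralizer ((⨆ j, blk M j : Subgroup G) : Set G))
    (permN : ∀ s ∈ normalizer ((S : Subgroup G) : Set G) ⊓ CZ (S : Subgroup G), ∀ i, ∃ j,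
      cj s (blk M i) = blk M j ∧ cj s (YY h i) = YY h j) :
    PIn S (CZ (S : Subgroup G)) P (FH (S : Subgroup G) (centralizer (X : Set G))) (fun i => blk M i)
      (fun i => YY h i) := by
  have hS1 : (S : Subgroup G) ≠ ⊥ := hB.ctx.sylow_ne_bot S
  have hCS : o2 (CZ (S : Subgroup G)) ≤ (S : Subgroup G) := (isLoc_centralizer_zc S hS1).o2_le S
  have hXS : X ≤ (S : Subgroup G) := hX.trans fun z hz => (ChoiceBase.mem_zc.1 hz).1
  have hSX : (S : Subgroup G) ≤ centralizer (X : Set G) := (le_CZ S).trans (centralizer_le hX)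
  have hlong : IsLong (S : Subgroup G) (centralizer (X : Set G)) :=
    ⟨isLoc_of_le_normalizer S hSX (S.isPGroup'.to_le hXS) hX1 (centralizer_le_normalizer _), centralizer_le hX⟩
  have hW : ∀ i, blk M i ≤ WP (S : Subgroup G) := fun i => (blk_le h i).trans (zl_le_WP hP)
  have hWQ : WP (S : Subgroup G) ≤ o2 (CZ (S : Subgroup G)) := WP_le_Q hB.data
  have hab := NotA.FH_comm hB.ctx.char2 hB.data hB.notA hlong
  obtain ⟨z, hz1, hz2, hz3⟩ := exists_vec h spl (((zl_le_WP hP).trans hWQ).trans hCS) hk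
  refine
    { SD := le_CZ S
      VO := fun i => (hW i).trans hWQ
      sq := fun i v hv => h.sq (blk_le h i hv)
      noff := fun x hx i j v hv w hw => ?_
      ind := PNat.ind h spl
      ZV := YY_le h
      Zne := PNat.YY_ne h spl
      card := PNat.card_eq h spl
      perm := permN
      trans := PNat.trans h spl
      root := fun i g hg hc => ?_
      ffp := fun A hA hb i => ffp h spl hA hb i
      mov := mov
      Pmin := hP.toIsPar.toIsMinPar
      PV := iSup_blk_norm h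
      irr := fun U hU hPU hne => PNat.irr h spl hU hPU hne
      PN := hPX.trans (le_normalizer_FH _ _)
      DN := (centralizer_le hX).trans (le_normalizer_FH _ _)
      VN := fun i => (hW i).trans (WP_le_FH _ _)
      NO := (NotA.FH_le_o2 hB.data hB.notA hlong).trans (hlong.o2_le S)
      Nsq := fun n hn => by
        have := NotA.FH_sq hB.ctx.char2 hB.data hB.notA hlong n hn
        rwa [pow_two] at this
      Nab := fun m hm n hn => mem_centralizer_iff.1 (hab hn) m hm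
      vec := ⟨z, hz2, fun x hx => (mem_centralizer_iff.1 hx z hz1).symm, hz3⟩ }
  · have h1 : v ∈ FH (S : Subgroup G) (centralizer (X : Set G)) := WP_le_FH _ _ (hW i hv)
    have h2 : w ∈ WP (S : Subgroup G) := by
      rw [← conj_WP hx]
      obtain ⟨y, hy, rfl⟩ := hw
      exact ⟨y, hW j hy, rfl⟩
    exact mem_centralizer_iff.1 (hab (WP_le_FH _ _ h2)) v h1
  · obtain ⟨n, hn⟩ := S.isPGroup' ⟨g, hg⟩
    exact PNat.root h spl (h.SP' hg) (n := n) (by simpa using congrArg Subtype.val hn) hc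

end inst

end Cfsg.Agent.Omega.NOThreeL.RWide.PInst

end

section


/-!
# Permutations of one orbit of blocks (helper540, for the plug of `LeftPerm`)

* **`perm_orbit`** : `s` permutes all pairs `(N b, l b)`, `N` independent; the pairs `(V i, Z i)` are some of them, and
  `s` centralises a vector `z ∈ ⨆ V` all whose components are nontrivial: then `s` permutes the pairs `(V i, Z i)`;
* `mem_AA_of_Mx` : `Mx O A` is membership in `AA O`.
-/

set_option autoImplicit false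
set_option linter.unusedSectionVars false

namespace Cfsg.Agent.Omega.NOThreeL.RWide.PInst

open Subgroup Cfsg Cfsg.Agent.ZN Cfsg.Agent.ZN.ChoiceBase

universe u

variable {G : Type u} [Group G]

theorem cj_inj {s : G} {A B : Subgroup G} (h : cj s A = cj s B) : A = B := by
  ext x
  have h1 : s * x * s⁻¹ ∈ cj s A ↔ x ∈ A := by
    rw [mem_cj]
    have e : s⁻¹ * (s * x * s⁻¹) * s = x := by group
    rw [e]
  have h2 : s * x * s⁻¹ ∈ cj s B ↔ x ∈ B := by
    rw [mem_cj]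
    have e : s⁻¹ * (s * x * s⁻¹) * s = x := by group
    rw [e]
  rw [← h1, ← h2, h]

theorem conj_mem_cj {s x : G} {A : Subgroup G} (hx : x ∈ A) : s * x * s⁻¹ ∈ cj s A := by
  rw [mem_cj]
  have e : s⁻¹ * (s * x * s⁻¹) * s = x := by group
  rwa [e]

theorem orbit_of_vec {β ι : Type*} {N : β → Subgroup G} {V : ι → Subgroup G}
    (cm : ∀ i j, ∀ x ∈ V i, ∀ y ∈ V j, x * y = y * x) (ind : iSupIndep N) (hV : ∀ i, ∃ b, N b = V i)
    (hinj : ∀ i j, V i = V j → i = j) {s z : G} (hσ : ∀ b, ∃ c, cj s (N b) = N c) (hz : z ∈ ⨆ i, V i)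
    (hzi : ∀ i, z ∉ ⨆ (j) (_ : j ≠ i), V j) (hs : s * z = z * s) (i : ι) : ∃ j, cj s (V i) = V j := by
  classical
  obtain ⟨b, hb⟩ := hV i
  obtain ⟨c, hc⟩ := hσ b
  by_contra hcon
  push Not at hcon
  have hc' : cj s (V i) = N c := by rw [← hb, hc]
  -- `V j ≤ ⨆ (a ≠ c), N a`
  have h1 : ∀ j, V j ≤ ⨆ (a) (_ : a ≠ c), N a := by
    intro j
    obtain ⟨a, ha⟩ := hV j
    have hac : a ≠ c := fun e => hcon j (by rw [hc', ← e, ha])
    rw [← ha]
    exact le_iSup₂_of_le a hac le_rfl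
  have h2 : ∀ j, j ≠ i → cj s (V j) ≤ ⨆ (a) (_ : a ≠ c), N a := by
    intro j hj
    obtain ⟨a, ha⟩ := hV j
    obtain ⟨d, hd⟩ := hσ a
    have hdc : d ≠ c := fun e => hj (hinj j i (cj_inj (s := s) (by rw [hc', ← ha, hd, e])))
    rw [← ha, hd]
    exact le_iSup₂_of_le d hdc le_rfl
  -- decompose `z`
  have hle : (⨆ j, V j) ≤ (⨆ (j) (_ : j ≠ i), V j) ⊔ V i := by
    refine iSup_le fun j => ?_
    by_cases hj : j = i
    · rw [hj]; exact le_sup_right
    · exact le_sup_of_le_left (le_iSup₂_of_le j hj le_rfl)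
  have hnorm : (⨆ (j) (_ : j ≠ i), V j) ≤ normalizer (V i : Set G) := by
    refine iSup₂_le fun j _ x hx => ?_
    exact centralizer_le_normalizer _ (mem_centralizer_iff.2 fun y hy => cm i j y hy x hx)
  have h3 : z ∈ (((⨆ (j) (_ : j ≠ i), V j) ⊔ V i : Subgroup G) : Set G) := hle hz
  rw [coe_mul_of_left_le_normalizer_right _ _ hnorm] at h3
  obtain ⟨x, hx, y, hy, hxy⟩ := h3
  have hxy' : x * y = z := hxy
  have hzs : s * z * s⁻¹ = z := by rw [hs]; group
  have h4 : s * y * s⁻¹ = (s * x * s⁻¹)⁻¹ * z := by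
    calc s * y * s⁻¹ = (s * x * s⁻¹)⁻¹ * (s * (x * y) * s⁻¹) := by group
      _ = (s * x * s⁻¹)⁻¹ * z := by rw [hxy', hzs]
  have h5 : s * x * s⁻¹ ∈ ⨆ (a) (_ : a ≠ c), N a := by
    have h6 : (⨆ (j) (_ : j ≠ i), V j) ≤ (⨆ (a) (_ : a ≠ c), N a).comap (MulAut.conj s).toMonoidHom := by
      refine iSup₂_le fun j hj w hw => ?_
      rw [mem_comap]
      exact h2 j hj (conj_mem_cj hw)
    have h7 := h6 hx
    rw [mem_comap] at h7
    exact h7
  have h8 : s * y * s⁻¹ ∈ ⨆ (a) (_ : a ≠ c), N a := by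
    rw [h4]
    exact mul_mem (inv_mem h5) ((iSup_le h1 : (⨆ j, V j) ≤ _) hz)
  have h9 : s * y * s⁻¹ ∈ N c := by rw [← hc']; exact conj_mem_cj hy
  have h10 := (disjoint_iff_inf_le.1 (ind c)) ⟨h9, h8⟩
  rw [mem_bot] at h10
  have h11 : y = 1 := by
    have e : y = s⁻¹ * (s * y * s⁻¹) * s := by group
    rw [e, h10]; group
  rw [h11, mul_one] at hxy'
  exact hzi i (hxy' ▸ hx)

theorem perm_orbit {β ι : Type*} {N l : β → Subgroup G} {V Z : ι → Subgroup G}
    (cm : ∀ i j, ∀ x ∈ V i, ∀ y ∈ V j, x * y = y * x) (ind : iSupIndep N) (hN : ∀ b, N b ≠ ⊥)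
    (hV : ∀ i, ∃ b, N b = V i ∧ l b = Z i) (indV : iSupIndep V) {s z : G}
    (hσ : ∀ b, ∃ c, cj s (N b) = N c ∧ cj s (l b) = l c) (hz : z ∈ ⨆ i, V i)
    (hzi : ∀ i, z ∉ ⨆ (j) (_ : j ≠ i), V j) (hs : s * z = z * s) (i : ι) :
    ∃ j, cj s (V i) = V j ∧ cj s (Z i) = Z j := by
  have hNi : Function.Injective N := ind.injective hN
  have hVi : Function.Injective V := indV.injective fun i => by
    obtain ⟨b, hb, -⟩ := hV i
    rw [← hb]; exact hN b
  obtain ⟨j, hj⟩ := orbit_of_vec cm ind (fun i => (hV i).imp fun b hb => hb.1) (fun i j h => hVi h)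
    (fun b => (hσ b).imp fun c hc => hc.1) hz hzi hs i
  refine ⟨j, hj, ?_⟩
  obtain ⟨b, hb, hlb⟩ := hV i
  obtain ⟨b', hb', hlb'⟩ := hV j
  obtain ⟨c, hc, hlc⟩ := hσ b
  have h1 : c = b' := hNi (by rw [← hc, hb, hj, hb'])
  rw [← hlb, hlc, h1, hlb']

theorem mem_AA_of_Mx {O A : Subgroup G} (h : KL.TwoS.Mx O A) : A ∈ AA O := by
  refine ⟨⟨⟨⟨fun a b => ?_⟩⟩, h.sq⟩, h.le, fun B hB hBO => h.max B hBO hB.2⟩
  have key : ∀ x ∈ A, ∀ y ∈ A, x * y = y * x := fun x hx y hy => by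
    have h1 := h.sq x hx
    have h2 := h.sq y hy
    have h3 := h.sq (x * y) (mul_mem hx hy)
    rw [pow_two] at h1 h2 h3
    have e1 : x⁻¹ = x := inv_eq_of_mul_eq_one_left h1
    have e2 : y⁻¹ = y := inv_eq_of_mul_eq_one_left h2
    have e3 : (x * y)⁻¹ = x * y := inv_eq_of_mul_eq_one_left h3
    rw [← e3, mul_inv_rev, e1, e2]
  exact Subtype.ext (key a a.2 b b.2)

end Cfsg.Agent.Omega.NOThreeL.RWide.PInst

end

end
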