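import Cfsg.Agent.Mrg.Omega.NOThreeL.RRed.NS.Fin
import Cfsg.Agent.Mrg.Omega.NOThreeL.RRed.WideTree

-- merged: Cfsg.Agent.Mrg.Omega.NOThreeL.RRed.NS.Same
section

section


/-!
# (T2) of THEOREM TYPES (#24779)

`P, P' ∈ P*(S)`, `V_P` natural over `F`, `|F| > 2`; some `A₀ ∈ EE` moves `V_P` and `V_P'`.

* `Same M M' h h' U` : `|F| = |F'|`, the members of `EE` move `V` iff they move `V'`, each of them has the same line
  `YY` in both, and the sets of lines are equal;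
* `same` : two natural parabolics; **`exists_same`** : `P'` of any type;
* **`dich`** : `P'` active: `Same`, or the members of `EE` which move one of `V_P`, `V_P'` centralise the other one.
-/

set_option autoImplicit false
set_option linter.unusedSectionVars false

namespace Cfsg.Agent.Omega.NOThreeL.RRed.NS

open Subgroup Cfsg Cfsg.Agent.ZN Cfsg.Agent.ZN.ChoiceBase Cfsg.Agent.Omega.MinPar
open Cfsg.Agent.Omega.FFThm (NatKM SymKM OffM ElemM NoOverM StmtM ConclM syl_of_sylow)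
open Cfsg.Agent.Omega.FrameFF (cv)
open Cfsg.Agent.Omega.NO3S.ThmB Cfsg.Agent.Omega.NO3S.KeyRad
open scoped Pointwise

universe u

section mod

variable {G : Type u} [Group G] {F F' : Type} [Field F] [Field F'] {S P P' V V' D D' U : Subgroup G} {k k' : ℕ}

/-- the same lines -/
structure Same (M : NatKM F S P V D k) (M' : NatKM F' S P' V' D' k') (h : Nb M) (h' : Nb M') (U : Subgroup G) :
    Prop where
  card : Nat.card F = Nat.card F'
  iff : ∀ A ≤ S, Tt U A → (A ≤ centralizer (V : Set G) ↔ A ≤ centralizer (V' : Set G))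
  eq : ∀ A ≤ S, Tt U A → ∀ j j', One M U A j → One M' U A j' → YY h j = YY h' j'
  ex : ∀ j, ∃ A ≤ S, Tt U A ∧ One M U A j ∧ ∃ j', One M' U A j' ∧ YY h j = YY h' j'
  ex' : ∀ j', ∃ A ≤ S, Tt U A ∧ One M' U A j' ∧ ∃ j, One M U A j ∧ YY h j = YY h' j'

variable [Finite G] [Finite F] [Finite F'] [CharP F 2] [CharP F' 2] {M : NatKM F S P V D k}
  {M' : NatKM F' S P' V' D' k'} (h : Nb M) (h' : Nb M')
include h h'

/-- `A₀` moves both: a member of `EE` which moves `V` moves `V'` -/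
theorem moves_both (hF : 2 < Nat.card F) (gd : Gd S P U V) (gd' : Gd S P' U V') {A₀ : Subgroup G}
    (hA₀S : A₀ ≤ S) (t₀ : Tt U A₀) {i : Fin k} {i' : Fin k'} (O : One M U A₀ i) (O' : One M' U A₀ i')
    {A : Subgroup G} (hAS : A ≤ S) (t : Tt U A) (hne : ¬ A ≤ centralizer (V : Set G)) :
    ¬ A ≤ centralizer (V' : Set G) := by
  intro hA
  have hF' : 2 < Nat.card F' := lt_of_lt_of_le hF (card_le_of_one h' O O' (hA₀S.trans h'.SP') gd.VU)
  obtain ⟨l, g, C⟩ := exists_cd h hF i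
  obtain ⟨l', g', C'⟩ := exists_cd h' hF' i'
  obtain ⟨-, hY, -⟩ := compare h h' C C' O O' (hA₀S.trans h.SP') (hA₀S.trans h'.SP') gd.VU gd'.VU hF
  obtain ⟨p, hp, hpA⟩ := exists_p M' i'
  obtain ⟨a, ha, h1⟩ := exists_not_mem_YY h' O' (hA₀S.trans h'.SP') hp hpA C' (one_ne_zero : (1 : F') ≠ 0)
  have ha' : a ∈ NC P' A₀ := by
    obtain ⟨b, hb, rfl⟩ := ha
    have : p * b * p⁻¹ ∈ NC P' A₀ := conj_NC hp (le_NC hb)
    exact this
  have h2 : l' 1 ∈ YY h i := by
    rw [hY]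
    exact C'.lY h' 1
  have h3 := gd'.cent_YY h hF gd.VU gd.UN hA₀S t₀ (not_le_of_one O') hAS t hne hA i ha' h2
  apply h1
  have e : a * l' 1 * a⁻¹ = l' 1 := by rw [h3]; group
  rw [e]
  exact C'.lY h' 1

theorem same (hF : 2 < Nat.card F) (gd : Gd S P U V) (gd' : Gd S P' U V') {A₀ : Subgroup G}
    (hA₀S : A₀ ≤ S) (t₀ : Tt U A₀) (hne₀ : ¬ A₀ ≤ centralizer (V : Set G)) (hne₀' : ¬ A₀ ≤ centralizer (V' : Set G)) :
    Same M M' h h' U := by
  obtain ⟨i, O⟩ := t₀.one h gd.U2 gd.VU hA₀S hne₀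
  obtain ⟨i', O'⟩ := t₀.one h' gd'.U2 gd'.VU hA₀S hne₀'
  have hF' : 2 < Nat.card F' := lt_of_lt_of_le hF (card_le_of_one h' O O' (hA₀S.trans h'.SP') gd.VU)
  choose l g C using exists_cd h hF
  choose l' g' C' using exists_cd h' hF'
  have cmp : ∀ A ≤ S, ∀ j j', One M U A j → One M' U A j' → Nat.card F = Nat.card F' ∧ YY h j = YY h' j' := by
    intro A hA j j' O O'
    obtain ⟨h1, h2, -⟩ := compare h h' (C j) (C' j') O O' (hA.trans h.SP') (hA.trans h'.SP') gd.VU gd'.VU hF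
    exact ⟨h1, h2⟩
  have iff : ∀ A ≤ S, Tt U A → (A ≤ centralizer (V : Set G) ↔ A ≤ centralizer (V' : Set G)) := fun A hA t =>
    ⟨fun h1 => by_contra fun h2 => moves_both h' h hF' gd' gd hA₀S t₀ O' O hA t h2 h1,
      fun h1 => by_contra fun h2 => moves_both h h' hF gd gd' hA₀S t₀ O O' hA t h2 h1⟩
  exact
    { card := (cmp A₀ hA₀S i i' O O').1
      iff := iff
      eq := fun A hA _ j j' O O' => (cmp A hA j j' O O').2
      ex := fun j => by
        obtain ⟨s, _, h1, h2, h3⟩ := exists_cj h gd.U2 gd.VU gd.UN hA₀S t₀ O j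
        obtain ⟨j', h4⟩ := h2.one h' gd'.U2 gd'.VU h1 fun h5 => not_le_of_one h3 ((iff _ h1 h2).2 h5)
        exact ⟨_, h1, h2, h3, j', h4, (cmp _ h1 j j' h3 h4).2⟩
      ex' := fun j' => by
        obtain ⟨s, _, h1, h2, h3⟩ := exists_cj h' gd'.U2 gd'.VU gd'.UN hA₀S t₀ O' j'
        obtain ⟨j, h4⟩ := h2.one h gd.U2 gd.VU h1 fun h5 => not_le_of_one h3 ((iff _ h1 h2).1 h5)
        exact ⟨_, h1, h2, h3, j, h4, (cmp _ h1 j j' h4 h3).2⟩ }

end mod

variable {G : Type u} [Group G] [Finite G] {S : Sylow 2 G} {P P' U : Subgroup G}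

/-- **(T2)** -/
theorem exists_same (hG : IsCharacteristicTwoType G) (hFF : StmtM.{u}) (hP : IsParS (S : Subgroup G) P)
    (hP' : IsParS (S : Subgroup G) P') (hU2 : IsElementaryAbelian 2 U) (hPU : P ≤ normalizer (U : Set G))
    (hP'U : P' ≤ normalizer (U : Set G)) (hZU : zc (S : Subgroup G) ≤ U) {F : Type} [Field F] [Finite F] [CharP F 2]
    {k : ℕ} {M : NatKM F (S : Subgroup G) P (zl (S : Subgroup G) P) (cv (S : Subgroup G) P) k} (h : Nb M)
    (hF : 2 < Nat.card F) {A₀ : Subgroup G} (hA₀S : A₀ ≤ S) (t₀ : Tt U A₀)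
    (hne₀ : ¬ A₀ ≤ centralizer (zl (S : Subgroup G) P : Set G))
    (hne₀' : ¬ A₀ ≤ centralizer (zl (S : Subgroup G) P' : Set G)) :
    ∃ (F' : Type) (_ : Field F') (_ : Finite F') (_ : CharP F' 2) (k' : ℕ)
      (M' : NatKM F' (S : Subgroup G) P' (zl (S : Subgroup G) P') (cv (S : Subgroup G) P') k') (h' : Nb M'),
      Same M M' h h' U := by
  have gd := gd_of hG hFF hP hU2 hPU hZU
  have gd' := gd_of hG hFF hP' hU2 hP'U hZU
  obtain ⟨i, O⟩ := t₀.one h hU2 gd.VU hA₀S hne₀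
  obtain ⟨F', i1, i2, i3, k', ⟨M'⟩⟩ := nat_of hG hFF hP' hU2 hP'U hZU hA₀S t₀ hne₀' gd.VU O hF
  have h' := Inst.nb hG hP' M'
  exact ⟨F', i1, i2, i3, k', M', h', same h h' hF gd gd' hA₀S t₀ hne₀ hne₀'⟩

/-- **(T2)**, for two given natural types -/
theorem same_of (hG : IsCharacteristicTwoType G) (hFF : StmtM.{u}) (hP : IsParS (S : Subgroup G) P)
    (hP' : IsParS (S : Subgroup G) P') (hU2 : IsElementaryAbelian 2 U) (hPU : P ≤ normalizer (U : Set G))
    (hP'U : P' ≤ normalizer (U : Set G)) (hZU : zc (S : Subgroup G) ≤ U) {F F' : Type} [Field F] [Finite F] [CharP F 2]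
    [Field F'] [Finite F'] [CharP F' 2] {k k' : ℕ}
    {M : NatKM F (S : Subgroup G) P (zl (S : Subgroup G) P) (cv (S : Subgroup G) P) k} (h : Nb M)
    {M' : NatKM F' (S : Subgroup G) P' (zl (S : Subgroup G) P') (cv (S : Subgroup G) P') k'} (h' : Nb M')
    (hF : 2 < Nat.card F) {A₀ : Subgroup G} (hA₀S : A₀ ≤ S) (t₀ : Tt U A₀)
    (hne₀ : ¬ A₀ ≤ centralizer (zl (S : Subgroup G) P : Set G))
    (hne₀' : ¬ A₀ ≤ centralizer (zl (S : Subgroup G) P' : Set G)) : Same M M' h h' U :=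
  same h h' hF (gd_of hG hFF hP hU2 hPU hZU) (gd_of hG hFF hP' hU2 hP'U hZU) hA₀S t₀ hne₀ hne₀'

/-- the members of `EE` which move one of `V_P`, `V_P'` centralise the other one -/
def Diff (S P P' U : Subgroup G) : Prop :=
  ∀ A ≤ S, Tt U A → A ≤ centralizer (zl S P : Set G) ∨ A ≤ centralizer (zl S P' : Set G)

/-- the dichotomy -/
theorem dich (hG : IsCharacteristicTwoType G) (hFF : StmtM.{u}) (hP : IsParS (S : Subgroup G) P)
    (hP' : IsParS (S : Subgroup G) P') (hU2 : IsElementaryAbelian 2 U) (hPU : P ≤ normalizer (U : Set G))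
    (hP'U : P' ≤ normalizer (U : Set G)) (hZU : zc (S : Subgroup G) ≤ U) {F : Type} [Field F] [Finite F] [CharP F 2]
    {k : ℕ} {M : NatKM F (S : Subgroup G) P (zl (S : Subgroup G) P) (cv (S : Subgroup G) P) k} (h : Nb M)
    (hF : 2 < Nat.card F) :
    Diff (S : Subgroup G) P P' U ∨
      ∃ (F' : Type) (_ : Field F') (_ : Finite F') (_ : CharP F' 2) (k' : ℕ)
        (M' : NatKM F' (S : Subgroup G) P' (zl (S : Subgroup G) P') (cv (S : Subgroup G) P') k') (h' : Nb M'),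
        Same M M' h h' U := by
  by_cases hd : Diff (S : Subgroup G) P P' U
  · exact Or.inl hd
  · right
    unfold Diff at hd
    push Not at hd
    obtain ⟨A₀, hA₀S, t₀, h1, h2⟩ := hd
    exact exists_same hG hFF hP hP' hU2 hPU hP'U hZU h hF hA₀S t₀ h1 h2

end Cfsg.Agent.Omega.NOThreeL.RRed.NS

end

section


/-!
# Members of `EE` do not mix types

`P` natural over `F`, `|F| > 2`, `P'` symmetric or natural over a field of another order: no member of `EE` moves both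
`V_P` and `V_P'` (`Diff`).
-/

set_option autoImplicit false
set_option linter.unusedSectionVars false

namespace Cfsg.Agent.Omega.NOThreeL.RRed.NS

open Subgroup Cfsg Cfsg.Agent.ZN Cfsg.Agent.ZN.ChoiceBase Cfsg.Agent.Omega.MinPar
open Cfsg.Agent.Omega.FFThm (NatKM SymKM OffM ElemM NoOverM StmtM ConclM syl_of_sylow)
open Cfsg.Agent.Omega.FrameFF (cv)
open Cfsg.Agent.Omega.NO3S.ThmB Cfsg.Agent.Omega.NO3S.KeyRad

universe u

variable {G : Type u} [Group G] [Finite G] {S : Sylow 2 G} {P P' U : Subgroup G}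

/-- natural, `|F| > 2`, and symmetric -/
theorem diff_of_sym (hG : IsCharacteristicTwoType G) (hP : IsParS (S : Subgroup G) P)
    (hP' : IsParS (S : Subgroup G) P') (hU2 : IsElementaryAbelian 2 U) (hPU : P ≤ normalizer (U : Set G))
    (hP'U : P' ≤ normalizer (U : Set G)) (hZU : zc (S : Subgroup G) ≤ U) {F : Type} [Field F] [Finite F] [CharP F 2]
    {k : ℕ} (M : NatKM F (S : Subgroup G) P (zl (S : Subgroup G) P) (cv (S : Subgroup G) P) k)
    (hF : 2 < Nat.card F) {k' m : ℕ} (hm : 2 ≤ m)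
    (N : SymKM (S : Subgroup G) P' (zl (S : Subgroup G) P') (cv (S : Subgroup G) P') k' m) :
    Diff (S : Subgroup G) P P' U := by
  intro A hA t
  by_contra hcon
  push Not at hcon
  obtain ⟨h1, h2⟩ := hcon
  have h := Inst.nb hG hP M
  have hVU : zl (S : Subgroup G) P ≤ U := ZN.zl_le hZU hPU
  have hVU' : zl (S : Subgroup G) P' ≤ U := ZN.zl_le hZU hP'U
  obtain ⟨i, O⟩ := t.one h hU2 hVU hA h1
  obtain ⟨i', x, y, s, n0, O'⟩ := Tt.oneS (Inst.sb hG hP' hm N) t hU2 hVU' hA h2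
  exact One.not_oneS hF O hVU O'

/-- natural over fields of different orders -/
theorem diff_of_card (hG : IsCharacteristicTwoType G) (hP : IsParS (S : Subgroup G) P)
    (hP' : IsParS (S : Subgroup G) P') (hU2 : IsElementaryAbelian 2 U) (hPU : P ≤ normalizer (U : Set G))
    (hP'U : P' ≤ normalizer (U : Set G)) (hZU : zc (S : Subgroup G) ≤ U) {F F' : Type} [Field F] [Finite F]
    [CharP F 2] [Field F'] [Finite F'] [CharP F' 2] {k k' : ℕ}
    (M : NatKM F (S : Subgroup G) P (zl (S : Subgroup G) P) (cv (S : Subgroup G) P) k)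
    (M' : NatKM F' (S : Subgroup G) P' (zl (S : Subgroup G) P') (cv (S : Subgroup G) P') k')
    (hne : Nat.card F ≠ Nat.card F') : Diff (S : Subgroup G) P P' U := by
  intro A hA t
  by_contra hcon
  push Not at hcon
  obtain ⟨h1, h2⟩ := hcon
  have h := Inst.nb hG hP M
  have h' := Inst.nb hG hP' M'
  have hVU : zl (S : Subgroup G) P ≤ U := ZN.zl_le hZU hPU
  have hVU' : zl (S : Subgroup G) P' ≤ U := ZN.zl_le hZU hP'U
  obtain ⟨i, O⟩ := t.one h hU2 hVU hA h1
  obtain ⟨i', O'⟩ := t.one h' hU2 hVU' hA h2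
  exact hne (le_antisymm (card_le_of_one h' O O' (hA.trans hP'.le) hVU) (card_le_of_one h O' O (hA.trans hP.le) hVU'))

end Cfsg.Agent.Omega.NOThreeL.RRed.NS

end

end

-- merged: Cfsg.Agent.Mrg.Omega.NOThreeL.RRed.NS.Wide
section

/-!
# THEOREM NS (#24102) and (T2) of #24779 in box R

* `active_of_mx` : `L` local, generated by `P*(S)`, `A ≤ S` minimal exact on `zl S L`, `A ≰ O₂(P)`: `P` is active;
* `act_active` : the same for `L = M₀`: `Act S P` ⟹ `Active S P V*`; `rc_of_mvAct`;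
* **`act_splitBy`, `act_inf_eq_bot`, `act_bigSplits`** : (SPL) for all active `P`, from `MvAct`;
* **`act_dich`** : `P, P'` active, `P` natural, `|F| > 2`: the same lines (`Same`), or different members of `EE` (`Diff`).
-/

set_option autoImplicit false
set_option linter.unusedSectionVars false

namespace Cfsg.Agent.Omega.NOThreeL.RRed.NS

open Subgroup Cfsg Cfsg.Agent.ZN Cfsg.Agent.ZN.ChoiceBase Cfsg.Agent.Omega.MinPar
open Cfsg.Agent.Omega.FFThm (NatKM SymKM OffM ElemM NoOverM StmtM ConclM syl_of_sylow)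
open Cfsg.Agent.Omega.FrameFF (cv)
open Cfsg.Agent.Omega.NO3S.ThmB Cfsg.Agent.Omega.NO3S.KeyRad
open Cfsg.Agent.Omega.NOThreeL.RTreeA (SplitBy Splits)
open Cfsg.Agent.Omega.NOThreeL.RRed.Blk.SplitAll (BigSplits)
open Cfsg.Agent.Omega.NOThreeL.RRed.WideTree (Act MvAct)
open Cfsg.Agent.Omega.NOThreeL.RTree (RB)
open Cfsg.Agent.Omega.NOThreeL.Merge (MZ le_MZ isLoc_MZ)

universe u

variable {G : Type u} [Group G] [Finite G] {S : Sylow 2 G} {L P P' A : Subgroup G}

theorem elem_loc (hc : IsCharacteristicTwoType G) (hL : IsLoc (S : Subgroup G) L) :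
    IsElementaryAbelian 2 (zl (S : Subgroup G) L) :=
  PLocal.ThompsonJ.isElementaryAbelian_mono (NO3S.OneLine.zc_elem _) (hL.zl_le S hc)

theorem active_of_mx (hc : IsCharacteristicTwoType G) (hL : IsLoc (S : Subgroup G) L)
    (hgen : L ≤ sSup {P | IsParS (S : Subgroup G) P ∧ P ≤ L}) (hP : IsParS (S : Subgroup G) P)
    (hA : A ≤ (S : Subgroup G)) (h : Mx (zl (S : Subgroup G) L) A) (hn : ¬ A ≤ o2 P) :
    Active (S : Subgroup G) P (zl (S : Subgroup G) L) := by
  have hAL : A ≤ L := hA.trans hL.le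
  obtain ⟨P₁, A₁, g⟩ := exists_gOne hc hL hgen ⟨A, hAL, h.off⟩
  refine ⟨A, hA, tt_of_mx h g.no hAL, fun h1 => hn ?_⟩
  rw [← hP.inf_centralizer S hc]
  exact le_inf hA h1

theorem gen_MZ' (S : Sylow 2 G) :
    MZ (S : Subgroup G) ≤ sSup {P | IsParS (S : Subgroup G) P ∧ P ≤ MZ (S : Subgroup G)} :=
  sSup_le fun _ hP => le_sSup ⟨hP, le_MZ hP⟩

theorem act_active (B : RB S) (a : Act (S : Subgroup G) P) : Active (S : Subgroup G) P (Wd (S : Subgroup G)) := by
  obtain ⟨hP, A, hA, hM, hn⟩ := a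
  exact active_of_mx B.ctx.char2 (isLoc_MZ B.ctx B.full B.data.noff) (gen_MZ' S) hP hA hM hn

theorem par_le_norm (hP : IsParS (S : Subgroup G) P) : P ≤ normalizer (Wd (S : Subgroup G) : Set G) :=
  (le_MZ hP).trans (ZN.le_normalizer_zl _ _)

theorem rc_of_mvAct (B : RB S) (mv : MvAct (S : Subgroup G)) : RC (S : Subgroup G) (Wd (S : Subgroup G)) := by
  intro z hz hz1
  obtain ⟨P, a, hm⟩ := mv z hz hz1
  exact ⟨P, a.1, par_le_norm a.1, act_active B a, hm⟩

theorem elem_Wd (B : RB S) : IsElementaryAbelian 2 (Wd (S : Subgroup G)) :=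
  elem_loc B.ctx.char2 (isLoc_MZ B.ctx B.full B.data.noff)

theorem zc_le_Wd (S : Subgroup G) : zc S ≤ Wd S := MinSimple.VModule.zc_le_zl _ _

/-- **(SPL)**, box R -/
theorem act_bigSplits (B : RB S) (mv : MvAct (S : Subgroup G)) (a : Act (S : Subgroup G) P) :
    BigSplits (S : Subgroup G) P :=
  bigSplits B.ctx.char2 FFBr.ffthmM a.1 (elem_Wd B) (par_le_norm a.1) (zc_le_Wd _) (rc_of_mvAct B mv) (act_active B a)

theorem act_inf_eq_bot (B : RB S) (mv : MvAct (S : Subgroup G)) (a : Act (S : Subgroup G) P) {F : Type} [Field F]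
    [Finite F] [CharP F 2] {k : ℕ}
    (M : NatKM F (S : Subgroup G) P (zl (S : Subgroup G) P) (cv (S : Subgroup G) P) k) (hF : 2 < Nat.card F) :
    (⨆ j, blk M j) ⊓ cv (S : Subgroup G) P = ⊥ :=
  inf_eq_bot B.ctx.char2 FFBr.ffthmM a.1 (elem_Wd B) (par_le_norm a.1) (zc_le_Wd _) (rc_of_mvAct B mv)
    (act_active B a) M hF

theorem act_splitBy (B : RB S) (mv : MvAct (S : Subgroup G)) (a : Act (S : Subgroup G) P) {F : Type} [Field F]
    [Finite F] [CharP F 2] {k : ℕ}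
    (M : NatKM F (S : Subgroup G) P (zl (S : Subgroup G) P) (cv (S : Subgroup G) P) k) (hF : 2 < Nat.card F) :
    SplitBy (S : Subgroup G) P (cv (S : Subgroup G) P) (⨆ j, blk M j) :=
  splitBy B.ctx.char2 FFBr.ffthmM a.1 (elem_Wd B) (par_le_norm a.1) (zc_le_Wd _) (rc_of_mvAct B mv)
    (act_active B a) M hF

/-- **(T2)**, box R (`MvAct` is not used) -/
theorem act_dich (B : RB S) (a : Act (S : Subgroup G) P) (a' : Act (S : Subgroup G) P') {F : Type} [Field F]
    [Finite F] [CharP F 2] {k : ℕ}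
    {M : NatKM F (S : Subgroup G) P (zl (S : Subgroup G) P) (cv (S : Subgroup G) P) k} (h : Nb M)
    (hF : 2 < Nat.card F) :
    Diff (S : Subgroup G) P P' (Wd (S : Subgroup G)) ∨
      ∃ (F' : Type) (_ : Field F') (_ : Finite F') (_ : CharP F' 2) (k' : ℕ)
        (M' : NatKM F' (S : Subgroup G) P' (zl (S : Subgroup G) P') (cv (S : Subgroup G) P') k') (h' : Nb M'),
        Same M M' h h' (Wd (S : Subgroup G)) :=
  dich B.ctx.char2 FFBr.ffthmM a.1 a'.1 (elem_Wd B) (par_le_norm a.1) (par_le_norm a'.1) (zc_le_Wd _) h hF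

end Cfsg.Agent.Omega.NOThreeL.RRed.NS

end
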